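import Cfsg.Agent.H200.LinFixC

/-!
# Commuting isometries of prime order (helper200)
-/

set_option autoImplicit false
set_option linter.unusedSectionVars false

namespace Cfsg.Agent.H200.LinFix

open Module Polynomial

variable {F V : Type*} [Field F] [AddCommGroup V] [Module F V] {b : LinearMap.BilinForm F V}

/-- `g` preserves `b`. -/
def Isom (b : LinearMap.BilinForm F V) (g : Module.End F V) : Prop := ∀ u v, b (g u) (g v) = b u v

theorem Isom.mul {g h : Module.End F V} (hg : Isom b g) (hh : Isom b h) : Isom b (g * h) := fun u v => by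
  rw [Module.End.mul_apply, Module.End.mul_apply, hg, hh]

theorem perp_KR {g : Module.End F V} (hg : Isom b g) {u v : V} (hu : u ∈ K g) (hv : v ∈ R g) : b u v = 0 := by
  obtain ⟨w, rfl⟩ := hv
  change b u (g w - w) = 0
  rw [map_sub, sub_eq_zero]
  have h := hg u w
  rwa [mem_K.1 hu] at h

theorem perp_RK {g : Module.End F V} (hg : Isom b g) {u v : V} (hu : u ∈ R g) (hv : v ∈ K g) : b u v = 0 := by
  obtain ⟨w, rfl⟩ := hu
  change b (g w - w) v = 0
  rw [map_sub, LinearMap.sub_apply, sub_eq_zero]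
  have h := hg w v
  rwa [mem_K.1 hv] at h

section fin

variable [Finite V]

theorem nondeg_R {g : Module.End F V} (hg : Isom b g) (hb : ∀ v, (∀ u, b u v = 0) → v = 0) {p : ℕ} (hgp : g ^ p = 1)
    (hpF : (p : F) ≠ 0) {v : V} (hv : v ∈ R g) (h : ∀ u ∈ R g, b u v = 0) : v = 0 := by
  have : FiniteDimensional F V := inferInstance
  apply hb
  intro u
  obtain ⟨k, hk, r, hr, rfl⟩ := decomp hgp hpF u
  rw [map_add, LinearMap.add_apply, perp_KR hg hk hv, h r hr, add_zero]

theorem nondeg_K {g : Module.End F V} (hg : Isom b g) (hb : ∀ v, (∀ u, b u v = 0) → v = 0) {p : ℕ} (hgp : g ^ p = 1)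
    (hpF : (p : F) ≠ 0) {v : V} (hv : v ∈ K g) (h : ∀ u ∈ K g, b u v = 0) : v = 0 := by
  have : FiniteDimensional F V := inferInstance
  apply hb
  intro u
  obtain ⟨k, hk, r, hr, rfl⟩ := decomp hgp hpF u
  rw [map_add, LinearMap.add_apply, perp_RK hg hr hv, h k hk, add_zero]

/-- `unitary` on an invariant subspace. -/
theorem unitary_on [Finite F] {g : Module.End F V} {W : Submodule F V} (hW : W ≠ ⊥) (hg : ∀ w ∈ W, g w ∈ W)
    (hirr : Irr g W) (c : LinearMap.BilinForm F V) (hinv : ∀ u ∈ W, ∀ v ∈ W, c (g u) (g v) = c u v)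
    (hc : ∀ v ∈ W, (∀ u ∈ W, c u v = 0) → v = 0) {l : ℕ} (hl : g ^ (l + 1) = 1) (h2 : ∃ w ∈ W, g (g w) ≠ w) :
    ∃ m, finrank F W = 2 * m ∧ ∀ s : Module.End F V, (∀ w ∈ W, s w ∈ W) → (∀ w ∈ W, s (g w) = g (s w)) →
      (∀ u ∈ W, ∀ v ∈ W, c (s u) (s v) = c u v) → ∀ w ∈ W, (s ^ (Nat.card F ^ m + 1)) w = w := by
  have hn : Nontrivial W := Submodule.nontrivial_iff_ne_bot.2 hW
  have hpow : ∀ (s : Module.End F V) (hs : ∀ w ∈ W, s w ∈ W) (n : ℕ) (w : W),
      ((((s.restrict hs) ^ n) w : W) : V) = (s ^ n) w := by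
    intro s hs n
    induction n with
    | zero => intro w; rfl
    | succ n ih =>
      intro w
      rw [pow_succ, pow_succ, Module.End.mul_apply, Module.End.mul_apply, ih]
      rfl
  obtain ⟨m, hm, h⟩ := unitary (g := g.restrict hg) (hirr.restrict hg) (c.restrict W)
    (fun u v => hinv u u.2 v v.2)
    (fun v hv => Subtype.ext (hc v v.2 fun u hu => hv ⟨u, hu⟩)) (l := l)
    (by
      refine LinearMap.ext fun w => Subtype.ext ?_
      rw [hpow, hl]
      rfl)
    (by
      obtain ⟨w, hw, hne⟩ := h2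
      intro h
      apply hne
      have h1 := congrArg Subtype.val (LinearMap.congr_fun h ⟨w, hw⟩)
      rw [hpow] at h1
      exact h1)
  refine ⟨m, hm, fun s hs hsg hsc w hw => ?_⟩
  have h1 := h (s.restrict hs) (by ext ⟨v, hv⟩; exact hsg v hv) (fun u v => hsc u u.2 v v.2)
  have h2 := congrArg Subtype.val (LinearMap.congr_fun h1 ⟨w, hw⟩)
  rw [hpow] at h2
  exact h2

/-- powers fixing a vector -/
theorem fix_of_coprime {g : Module.End F V} {w : V} {m n : ℕ} (hm : (g ^ m) w = w) (hn : (g ^ n) w = w)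
    (h : m.Coprime n) : g w = w := by
  have key : ∀ a b : ℕ, (g ^ a) w = w → (g ^ b) w = w → (g ^ Nat.gcd a b) w = w := by
    intro a b
    induction a, b using Nat.gcd.induction with
    | H0 b => intro _ hb; rwa [Nat.gcd_zero_left]
    | H1 a b ha ih =>
      intro h1 h2
      rw [Nat.gcd_rec]
      refine ih ?_ h1
      have h3 : ∀ k : ℕ, (g ^ (a * k)) w = w := by
        intro k
        induction k with
        | zero => rfl
        | succ k ih => rw [Nat.mul_succ, pow_add, Module.End.mul_apply, h1, ih]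
      have h4 : (g ^ (b % a)) ((g ^ (a * (b / a))) w) = w := by
        rw [← Module.End.mul_apply, ← pow_add, Nat.mod_add_div, h2]
      rwa [h3] at h4
  have h1 := key m n hm hn
  rwa [h, pow_one] at h1

variable {l p : ℕ} [hl : Fact l.Prime] [hp : Fact p.Prime]

/-- fixed points of the square of an element of odd prime order -/
theorem fix_of_sq (hl2 : l ≠ 2) {y : Module.End F V} (hy : y ^ l = 1) {w : V} (h : y (y w) = w) : y w = w := by
  apply fix_of_coprime (m := 2) (n := l) h (by rw [hy]; rfl)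
  exact (Nat.Prime.coprime_iff_not_dvd Nat.prime_two).2 (fun h => hl2 ((Nat.prime_dvd_prime_iff_eq Nat.prime_two hl.out).1 h).symm)

/-- **An isometry of prime order commuting with `y` irreducible on `R y`.** -/
theorem comm_irr [Finite F] (hl2 : l ≠ 2) (hlF : (l : F) ≠ 0) {y : Module.End F V} (hy : y ^ l = 1) (hyb : Isom b y)
    (hb : ∀ v, (∀ u, b u v = 0) → v = 0) (hirr : Irr y (R y)) {s : Module.End F V} (hs : s ^ p = 1) (hsb : Isom b s)
    (hsy : s * y = y * s) :
    (∀ w ∈ R y, s w = w) ∨ (R y ≤ R s ∧ ∃ m, finrank F (R y) = 2 * m ∧ p ∣ Nat.card F ^ m + 1) := by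
  have hyW : ∀ w ∈ R y, y w ∈ R y := fun w hw => R_inv rfl hw
  have hsW : ∀ w ∈ R y, s w ∈ R y := fun w hw => R_inv hsy hw
  have hsy' : ∀ w, s (y w) = y (s w) := fun w => LinearMap.congr_fun hsy w
  by_cases hW : R y = ⊥
  · left
    intro w hw
    rw [hW, Submodule.mem_bot] at hw
    rw [hw, map_zero]
  rcases zero_or_inj (a := s - 1) hirr hyW (fun w _ => by
    change s (y w) - y w = y (s w - w)
    rw [map_sub, hsy']) with h | h
  · left
    intro w hw
    have h1 := h w hw
    change s w - w = 0 at h1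
    exact sub_eq_zero.1 h1
  · right
    have h' : ∀ w ∈ R y, s w = w → w = 0 := fun w hw h1 => h w hw (sub_eq_zero.2 h1)
    constructor
    · have h1 : ∀ w ∈ R y, (s - 1) w ∈ R y := fun w hw => Submodule.sub_mem _ (hsW w hw) hw
      have h2 : Function.Injective ((s - 1).restrict h1) := by
        rw [← LinearMap.ker_eq_bot, LinearMap.ker_eq_bot']
        rintro ⟨w, hw⟩ h0
        exact Subtype.ext (h w hw (congrArg Subtype.val h0))
      have h3 : Function.Surjective ((s - 1).restrict h1) := Finite.surjective_of_injective h2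
      intro w hw
      obtain ⟨⟨u, hu⟩, hu'⟩ := h3 ⟨w, hw⟩
      exact ⟨u, congrArg Subtype.val hu'⟩
    · obtain ⟨w, hw, hw0⟩ := Submodule.exists_mem_ne_zero_of_ne_bot hW
      obtain ⟨m, hm, hU⟩ := unitary_on (l := l - 1) hW hyW hirr b (fun u _ v _ => hyb u v)
        (fun v hv hv' => nondeg_R hyb hb hy hlF hv hv')
        (by rw [Nat.sub_add_cancel hl.out.one_le, hy])
        ⟨w, hw, fun h1 => hw0 (eq_zero_of_mem hy hlF (fix_of_sq hl2 hy h1) hw)⟩
      refine ⟨m, hm, ?_⟩
      by_contra hnd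
      apply hw0
      apply h' w hw
      refine fix_of_coprime (hU s hsW (fun w _ => hsy' w) (fun u _ v _ => hsb u v) w hw)
        (by rw [hs]; rfl) ?_
      exact ((Nat.Prime.coprime_iff_not_dvd hp.out).2 hnd).symm

/-- `R y` irreducible has even dimension. -/
theorem even_of_irr [Finite F] (hl2 : l ≠ 2) (hlF : (l : F) ≠ 0) {y : Module.End F V} (hy : y ^ l = 1)
    {W : Submodule F V} (hWR : W ≤ R y) (hyW : ∀ w ∈ W, y w ∈ W) (hirr : Irr y W) (hW : W ≠ ⊥)
    (c : LinearMap.BilinForm F V) (hinv : ∀ u ∈ W, ∀ v ∈ W, c (y u) (y v) = c u v)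
    (hc : ∀ v ∈ W, (∀ u ∈ W, c u v = 0) → v = 0) : Even (finrank F W) := by
  obtain ⟨w, hw, hw0⟩ := Submodule.exists_mem_ne_zero_of_ne_bot hW
  obtain ⟨m, hm, -⟩ := unitary_on (l := l - 1) hW hyW hirr c hinv hc
    (by rw [Nat.sub_add_cancel hl.out.one_le, hy])
    ⟨w, hw, fun h1 => hw0 (eq_zero_of_mem hy hlF (fix_of_sq hl2 hy h1) (hWR hw))⟩
  exact ⟨m, by omega⟩

end fin

end Cfsg.Agent.H200.LinFix
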