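import Cfsg.Agent.H200.RowOrthG

/-!
# Rows of S4329 for orthogonal groups: plus type, automorphisms induced by semisimilitudes (helper200)
-/

set_option autoImplicit false
set_option linter.unusedSectionVars false

namespace Cfsg.Agent.H200.RowOrth

open QuadraticMap Module Cfsg.Agent.LieClassical.OrthCore Cfsg.Agent.LieClassical.OrthTrans
open Cfsg.Agent.ClassicalGeometry.OrthSemi Cfsg.Agent.ClassicalGeometry.OrthAut1
open Cfsg.Agent.H200.LinFix Cfsg.Agent.H568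

variable {F V : Type*} [Field F] [AddCommGroup V] [Module F V] {Q : QuadraticForm F V}

theorem ordd_5 : Ordd 5 2 4 := by
  intro m hm
  have h1 := Nat.div_add_mod m 4
  have h2 : m % 4 < 4 := Nat.mod_lt _ (by norm_num)
  have h3 : 2 ^ m % 5 = 2 ^ (m % 4) % 5 := by
    conv_lhs => rw [← h1, pow_add, pow_mul]
    rw [Nat.mul_mod, Nat.pow_mod]
    norm_num
  have h4 : 1 ≤ 2 ^ m := Nat.one_le_pow _ _ (by norm_num)
  have h5 : 2 ^ m % 5 = 1 := by omega
  rw [h3] at h5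
  rw [Nat.dvd_iff_mod_eq_zero]
  interval_cases h : m % 4 <;> simp_all

/-- If `R t` is a plane containing a nonzero singular vector then `p ∣ 2 (q - 1)`. -/
theorem dvd_of_sing_R [Finite V] (hG : Good Q) {p : ℕ} [hp : Fact p.Prime] (hpF : (p : F) ≠ 0) {t : ↥(E Q)}
    (ht : t ^ p = 1) (hR : finrank F (R (en Q t)) = 2) {v : V} (hv : v ∈ R (en Q t)) (hv0 : v ≠ 0) (hQv : Q v = 0) :
    p ∣ 2 * (Nat.card F - 1) := by
  classical
  have hF : Finite F := finite_F hG
  have ht' : en Q t ^ p = 1 := by rw [← map_pow, ht, map_one]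
  let f : Function.End {v : V // v ∈ R (en Q t) ∧ Q v = 0} := fun v =>
    ⟨en Q t v, R_inv rfl v.2.1, by rw [en_apply, E_le_O t.2]; exact v.2.2⟩
  have hfk : ∀ (k : ℕ) (w : {v : V // v ∈ R (en Q t) ∧ Q v = 0}),
      (((f ^ k) w : {v : V // v ∈ R (en Q t) ∧ Q v = 0}) : V) = (en Q t ^ k) w := by
    intro k
    induction k with
    | zero => intro w; rfl
    | succ k ih =>
      intro w
      rw [pow_succ', pow_succ', Module.End.mul_apply, ← ih]
      rfl
  have hf : f ^ p ^ 1 = 1 := by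
    funext w
    apply Subtype.ext
    rw [hfk, pow_one, ht']
    rfl
  have hft : Fintype {v : V // v ∈ R (en Q t) ∧ Q v = 0} := Fintype.ofFinite _
  have h1 := Equiv.Perm.card_fixedPoints_modEq (p := p) (n := 1) hf
  have h2 : Fintype.card (Function.fixedPoints f) = 1 := by
    rw [Fintype.card_eq_one_iff]
    refine ⟨⟨⟨0, Submodule.zero_mem _, QuadraticMap.map_zero _⟩, Subtype.ext (map_zero (en Q t))⟩, ?_⟩
    rintro ⟨y, hy⟩
    apply Subtype.ext
    apply Subtype.ext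
    exact eq_zero_of_mem ht' hpF (congrArg Subtype.val hy) y.2.1
  rw [h2, ← Nat.card_eq_fintype_card, card_sing_plane hR
    (fun w hw h => nondeg_R (isom_en t) (polar_nondeg hG) ht' hpF hw h) hv hv0 hQv] at h1
  have hq2 : 2 ≤ Nat.card F := Finite.one_lt_card
  have h3 := (Nat.modEq_iff_dvd' (by omega)).1 h1.symm
  have h4 : 2 * Nat.card F - 1 - 1 = 2 * (Nat.card F - 1) := by omega
  rwa [h4] at h3

/-- **Plus type, dimension `2 n`**, automorphisms induced by semisimilitudes. -/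
theorem plus_alt [Finite V] [Finite F] (hG : Good Q) [IsSimpleGroup (P Q)] (hna : ¬ IsMulCommutative (P Q)) {p : ℕ}
    [hp : Fact p.Prime] (hp2 : p ≠ 2) {n : ℕ} (hn : 4 ≤ n) (hV : finrank F V = 2 * n)
    (hsing : Nat.card {v : V // Q v = 0} = (Nat.card F ^ n - 1) * (Nat.card F ^ (n - 1) + 1) + 1)
    (hel1 : ∀ l : ℕ, l.Prime → l ≠ 2 → l ∣ Nat.card F ^ (2 * (n - 1)) - 1 → l ∣ Nat.card (P Q))
    (hel2 : ∀ l : ℕ, l.Prime → l ≠ 2 → l ∣ Nat.card F ^ n - 1 → l ∣ Nat.card (P Q))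
    (h28 : Nat.card F = 2 → n = 4 → Nat.card (P Q) = 174182400)
    {M : Gam Q} (ha : orderOf (Psi Q M) = p) : Alt p (Psi Q M) := by
  classical
  have hfinE : Finite ↥(E Q) := finite_E
  have hfd : FiniteDimensional F V := inferInstance
  obtain ⟨r, hchar⟩ := CharP.exists F
  have hFt : Fintype F := Fintype.ofFinite F
  obtain ⟨⟨f, hf0⟩, hr, hF⟩ := FiniteField.card F r
  have hF' : Nat.card F = r ^ f := by rw [Nat.card_eq_fintype_card]; exact hF
  have hq2 : 2 ≤ Nat.card F := Finite.one_lt_card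
  -- the odd degree
  obtain ⟨d, hdo, hdn, hd3⟩ : ∃ d, Odd d ∧ (d = n ∨ d = n - 1) ∧ 3 ≤ d := by
    rcases Nat.even_or_odd n with h | h
    · refine ⟨n - 1, ?_, Or.inr rfl, by omega⟩
      exact Nat.Even.sub_odd (by omega) h odd_one
    · exact ⟨n, h, Or.inl rfl, by omega⟩
  obtain ⟨l₂, hl₂, hl₂2, hdiv₂, hl₂le, hd₂, hl₂r⟩ := exists_prim_odd hq2 hd3 hdo
  have := Fact.mk hl₂
  have hl₂F : (l₂ : F) ≠ 0 := by
    refine natCast_ne_of_not_dvd hr fun h => hl₂r ?_
    rw [hF']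
    exact dvd_pow h (by omega)
  have hel₂ : l₂ ∣ Nat.card (P Q) := by
    rcases hdn with rfl | rfl
    · exact hel2 l₂ hl₂ hl₂2 hdiv₂
    · apply hel1 l₂ hl₂ hl₂2
      refine hdiv₂.trans ?_
      rw [mul_comm, pow_mul]
      have h1 := Nat.sub_dvd_pow_sub_pow (Nat.card F ^ (n - 1)) 1 2
      rwa [one_pow] at h1
  obtain ⟨y₂, hy₂, hy₂1⟩ := exists_elt hG hl₂2 hel₂
  have hVl₂ : finrank F V < 2 * l₂ := by
    rcases hdn with rfl | rfl
    · omega
    · have h1 : Odd l₂ := hl₂.odd_of_ne_two hl₂2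
      rw [Nat.odd_iff] at h1 hdo
      omega
  have hVd : finrank F V < 3 * d := by rcases hdn with rfl | rfl <;> omega
  by_cases h28' : r = 2 ∧ f = 1 ∧ n = 4
  · -- `Ω₈⁺(2)`
    obtain ⟨rfl, rfl, rfl⟩ := h28'
    have hF2 : Nat.card F = 2 := by rw [hF']; rfl
    rcases inner_or_field hG hp.out hp2 ha with ⟨g, hg⟩ | ⟨σ, c, hM, hσ⟩
    · obtain ⟨t, ht, ht1, hat⟩ := exists_lift_elt hG hp2 ha hg hna
      have hpF : (p : F) ≠ 0 := natCast_ne_of_not_dvd hr fun h =>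
        hp2 ((Nat.prime_dvd_prime_iff_eq hp.out Nat.prime_two).1 h)
      have hd3' : d = 3 := by
        rcases hdn with rfl | rfl
        · exact absurd hdo (by decide)
        · rfl
      subst hd3'
      rw [hF2] at hdiv₂
      norm_num at hdiv₂
      have hl7 : l₂ = 7 := (Nat.prime_dvd_prime_iff_eq hl₂ (by norm_num)).1 hdiv₂
      subst hl7
      by_cases hp7 : p = 7
      · -- Sylow `7`-subgroups have order `7`
        subst hp7
        left
        refine ⟨⟨g, hg⟩, ?_⟩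
        obtain ⟨S⟩ : Nonempty (Sylow 7 (P Q)) := inferInstance
        refine ⟨S, ?_⟩
        obtain ⟨k, hk⟩ := IsPGroup.iff_card.1 S.2
        have h1 : 7 ^ k ∣ 174182400 := by
          rw [← h28 hF2 rfl, ← hk]
          exact Subgroup.card_subgroup_dvd_card _
        have h2 : k < 2 := by
          by_contra h
          push Not at h
          have h3 : 7 ^ 2 ∣ 174182400 := (pow_dvd_pow 7 h).trans h1
          norm_num at h3
        apply isCyclic_of_card_dvd_prime (p := 7)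
        rw [hk]
        interval_cases k <;> norm_num
      · right; right
        rw [hat]
        refine third_inner hG hp2 hl₂2 (Ne.symm hp7) hpF hVl₂ hy₂ hy₂1 fun z hz hz1 hcz => ?_
        rcases plus_second hG hp2 hpF (by norm_num) hV hdo hdn hl₂2 hl₂F hd₂ (by rw [hF2]; norm_num) hz hz1 ht ht1 hcz with
          ⟨h1, h2, -⟩ | ⟨-, h2⟩
        · obtain ⟨v, hv, hv0, hQv⟩ := sing_K (by norm_num) hsing hl₂2 hd₂ (by rw [hF2]; norm_num) hz
          rw [← h1] at hv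
          have h3 := dvd_of_sing_R hG hpF ht h2 hv hv0 hQv
          rw [hF2] at h3
          exact hp2 ((Nat.prime_dvd_prime_iff_eq hp.out Nat.prime_two).1 (by simpa using h3))
        · rw [hF2] at h2
          norm_num at h2
          exact hp7 ((Nat.prime_dvd_prime_iff_eq hp.out (by norm_num)).1 h2)
    · exfalso
      have h1 := Nat.le_of_dvd one_pos (field_dvd hG hp.out hM hσ ha hr hF')
      have := hp.out.two_le
      omega
  obtain ⟨l₁, hl₁, hl₁2, hsup, hdiv, hl₁le, hd₁, hl₁r⟩ := exists_super (e := 2 * (n - 1)) hr hf0 (by omega)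
    (by
      rintro ⟨h1, h2⟩
      apply h28'
      refine ⟨h1, ?_, ?_⟩
      · have h3 : f * 6 ≤ f * (2 * (n - 1)) := Nat.mul_le_mul_left _ (by omega)
        have : 1 ≤ f := hf0
        omega
      · have h3 : 1 * (2 * (n - 1)) ≤ f * (2 * (n - 1)) := Nat.mul_le_mul_right _ hf0
        omega)
  rw [← hF'] at hdiv hd₁
  have := Fact.mk hl₁
  have hl₁F : (l₁ : F) ≠ 0 := natCast_ne_of_not_dvd hr hl₁r
  have hfe : 2 * (n - 1) ≤ f * (2 * (n - 1)) := Nat.le_mul_of_pos_left _ hf0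
  obtain ⟨y₁, hy₁, hy₁1⟩ := exists_elt hG hl₁2 (hel1 l₁ hl₁ hl₁2 hdiv)
  have hVe : finrank F V < 2 * (2 * (n - 1)) := by omega
  have hVl : finrank F V < 2 * l₁ := by omega
  have hirr : ∀ y : ↥(E Q), y ^ l₁ = 1 → Irr (en Q y) (R (en Q y)) := fun y hy => irr_R hd₁ hl₁F hVe hy
  have hl₁p : l₁ ∣ Nat.card F ^ (n - 1) + 1 := dvd_add_one (by omega) hd₁ hdiv
  have hnosing : ∀ y : ↥(E Q), y ^ l₁ = 1 → y ≠ 1 → ∀ v ∈ K (en Q y), Q v = 0 → v = 0 :=
    fun y hy hy1 v hv hQv => no_sing_K hG (by omega) hV hsing hl₁2 hl₁F hd₁ hl₁p hy hy1 hv hQv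
  have hno : (p : F) = 0 → ∀ y : ↥(E Q), y ^ l₁ = 1 → y ≠ 1 → NoNorm p (QuotientGroup.mk y : P Q) := by
    intro hpF y hy hy1
    refine noNorm_of_ti hG hp2 hpF (ti_of_irr hG hl₁F hy (hirr y hy) fun v hv hvv => ?_)
    apply hnosing y hy hy1 v hv
    have h2F : (2 : F) ≠ 0 := by
      intro h2
      have h3 : ((2 : ℕ) : F) = 0 := by exact_mod_cast h2
      rw [CharP.cast_eq_zero_iff F r] at hpF h3
      have h4 := (Nat.prime_dvd_prime_iff_eq hr hp.out).1 hpF
      have h5 := (Nat.prime_dvd_prime_iff_eq hr Nat.prime_two).1 h3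
      exact hp2 (h4.symm.trans h5)
    rw [polarBilin_apply_apply, polar_self'] at hvv
    exact (mul_eq_zero.1 hvv).resolve_left h2F
  rcases inner_or_field hG hp.out hp2 ha with ⟨g, hg⟩ | ⟨σ, c, hM, hσ⟩
  · obtain ⟨t, ht, ht1, hat⟩ := exists_lift_elt hG hp2 ha hg hna
    by_cases hpF : (p : F) = 0
    · exact Or.inr (Or.inl ⟨⟨g, hg⟩, _, hno hpF y₁ hy₁ hy₁1⟩)
    by_cases hpl : l₁ = p
    · left
      subst hpl
      exact ⟨⟨g, hg⟩, cyclic_sylow hG hp2 hpF hd₁ hVe⟩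
    by_cases hc : ∀ y : ↥(E Q), y ^ l₁ = 1 → y ≠ 1 → t * y ≠ y * t
    · right; right
      rw [hat]
      exact third_inner hG hp2 hl₁2 hpl hpF hVl hy₁ hy₁1 hc
    push Not at hc
    obtain ⟨y, hy, hy1, hty⟩ := hc
    have hfirst := plus_first hG hp2 hpF hn hV hl₁2 hl₁F hd₁ hy hy1 ht ht1 hty
    have ht' : en Q t ^ p = 1 := by rw [← map_pow, ht, map_one]
    have hpl₂ : l₂ ≠ p := by
      rintro rfl
      rcases hfirst with ⟨h1, h2⟩ | ⟨h1, h2⟩
      · have h3 := Nat.le_of_dvd (by omega) (dvd_finrank_R hd₂ hpF ht')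
        omega
      · exact arith_plus hp2 (by omega) (by omega) hdo hdn h2 hdiv₂
    right; right
    rw [hat]
    refine third_inner hG hp2 hl₂2 hpl₂ hpF hVl₂ hy₂ hy₂1 fun z hz hz1 hcz => ?_
    rcases plus_second hG hp2 hpF hn hV hdo hdn hl₂2 hl₂F hd₂ hdiv₂ hz hz1 ht ht1 hcz with ⟨h1, h2, h3⟩ | ⟨h1, h2⟩
    · rcases hfirst with ⟨h4, h5⟩ | ⟨h4, h5⟩
      · subst h3
        obtain ⟨v, hv, hv0, hQv⟩ := sing_K (by omega) hsing hl₂2 hd₂ hdiv₂ hz
        rw [← h1, h4] at hv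
        exact hv0 (hnosing y hy hy1 v hv hQv)
      · omega
    · rcases hfirst with ⟨h4, h5⟩ | ⟨h4, h5⟩
      · omega
      · exact arith_plus hp2 (by omega) (by omega) hdo hdn h5 h2
  · right; right
    have hpl : l₁ ≠ p := by
      have h1 := Nat.le_of_dvd hf0 (field_dvd hG hp.out hM hσ ha hr hF')
      have h2 : f * 1 ≤ f * (2 * (n - 1)) := Nat.mul_le_mul_left _ (by omega)
      omega
    exact third_field hG hp2 hl₁2 hpl hr hF' hsup hd₁ hl₁F hVe hVl hno hy₁ hy₁1 hM hσ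

end Cfsg.Agent.H200.RowOrth
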