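import Cfsg.Agent.H200.RowOrthI

/-!
# Rows of S4329 : triality automorphisms (helper200)
-/

set_option autoImplicit false
set_option linter.unusedSectionVars false

namespace Cfsg.Agent.H200.RowOrth

open QuadraticMap Module Cfsg.Agent.LieClassical.OrthCore Cfsg.Agent.LieClassical.OrthTrans
open Cfsg.Agent.ClassicalGeometry.OrthSemi Cfsg.Agent.ClassicalGeometry.OrthAut1
open Cfsg.Agent.H200.LinFix Cfsg.Agent.H568

variable {F V : Type*} [Field F] [AddCommGroup V] [Module F V] {Q : QuadraticForm F V}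

/-- The number of elements of the stabiliser of a singular vector. -/
theorem card_stabilizer [Finite V] (hG : Good Q) {v : V} (hv : Q v = 0) (hv0 : v ≠ 0) :
    (Nat.card {v : V // Q v = 0} - 1) * Nat.card {g : ↥(E Q) // (g : V ≃ₗ[F] V) v = v} = Nat.card ↥(E Q) := by
  classical
  have hfin : Finite ↥(E Q) := finite_E
  let act : MulAction ↥(E Q) V :=
    { smul := fun g w => (g : V ≃ₗ[F] V) w
      one_smul := fun w => rfl
      mul_smul := fun g h w => rfl }
  have h1 := (MulAction.stabilizer ↥(E Q) v).index_mul_card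
  rw [MulAction.index_stabilizer] at h1
  have h2 : MulAction.orbit ↥(E Q) v = {w : V | Q w = 0} \ {0} := by
    ext w
    constructor
    · rintro ⟨g, rfl⟩
      change (g : V ≃ₗ[F] V) v ∈ _
      refine ⟨?_, ?_⟩
      · change Q ((g : V ≃ₗ[F] V) v) = 0
        rw [E_le_O g.2, hv]
      · intro h
        exact hv0 ((g : V ≃ₗ[F] V).map_eq_zero_iff.1 h)
    · rintro ⟨hw, hw0⟩
      obtain ⟨g, hg, hgv⟩ := hG.trans_sing hv hw hv0 hw0
      exact ⟨⟨g, hg⟩, hgv⟩
  have h3 : (MulAction.orbit ↥(E Q) v).ncard = Nat.card {v : V // Q v = 0} - 1 := by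
    rw [h2, Set.ncard_sdiff_singleton_of_mem (show (0 : V) ∈ {w : V | Q w = 0} from QuadraticMap.map_zero Q)]
    rfl
  rw [h3] at h1
  exact h1

theorem triality_ne_char [Finite V] [Finite F] (hG : Good Q) (h8 : finrank F V = 8) (h3F : (3 : F) ≠ 0)
    [hp : Fact (Nat.Prime 3)]
    (hsing : Nat.card {v : V // Q v = 0} = (Nat.card F ^ 4 - 1) * (Nat.card F ^ 3 + 1) + 1)
    (hcard : ∃ c k : ℕ, c ∣ 4 ∧ c * Nat.card (P Q) = k * ((Nat.card F ^ 4 - 1) * (Nat.card F ^ 4 - 1) *
      (Nat.card F ^ 6 - 1)))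
    {Γ : Subgroup (MulAut (P Q))} (hΓ : ∀ α, α ∈ Γ ↔ PtA hG α) (hΓ3 : Γ.index = 3) {a : MulAut (P Q)} (ha3 : a ^ 3 = 1)
    (ha : a ∉ Γ) : Alt 3 a := by
  classical
  have hfinE : Finite ↥(E Q) := finite_E
  have hfd : FiniteDimensional F V := inferInstance
  obtain ⟨r, hchar⟩ := CharP.exists F
  have hFt : Fintype F := Fintype.ofFinite F
  obtain ⟨⟨f, hf0⟩, hr, hF⟩ := FiniteField.card F r
  have hF' : Nat.card F = r ^ f := by rw [Nat.card_eq_fintype_card]; exact hF
  obtain ⟨l, hl, hl2, -, hdiv, hle, hd, hlr⟩ := exists_super (e := 4) hr hf0 (by omega) (by rintro ⟨-, h⟩; omega)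
  rw [← hF'] at hdiv hd
  have := Fact.mk hl
  have hlF : (l : F) ≠ 0 := natCast_ne_of_not_dvd hr hlr
  have hl5 : 5 ≤ l := by
    have : 1 ≤ f := hf0
    omega
  obtain ⟨v, hv0, hv⟩ := hG.sing
  -- an element of order `l` in the stabiliser
  obtain ⟨y, hy, hy1, hyv⟩ : ∃ y : ↥(E Q), y ^ l = 1 ∧ y ≠ 1 ∧ (y : V ≃ₗ[F] V) v = v := by
    let S : Subgroup ↥(E Q) :=
      { carrier := {g | (g : V ≃ₗ[F] V) v = v}
        mul_mem' := fun {a b} ha hb => by
          change (a : V ≃ₗ[F] V) ((b : V ≃ₗ[F] V) v) = v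
          rw [show (b : V ≃ₗ[F] V) v = v from hb]
          exact ha
        one_mem' := rfl
        inv_mem' := fun {a} ha => by
          change (a : V ≃ₗ[F] V).symm v = v
          rw [LinearEquiv.symm_apply_eq]
          exact (show (a : V ≃ₗ[F] V) v = v from ha).symm }
    have h1 : l ∣ Nat.card S := by
      have h2 := card_stabilizer hG hv hv0
      rw [hsing, Nat.add_sub_cancel] at h2
      change (Nat.card F ^ 4 - 1) * (Nat.card F ^ 3 + 1) * Nat.card S = _ at h2
      obtain ⟨c, k, hc, hck⟩ := hcard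
      have h3 : Nat.card ↥(E Q) = Nat.card (P Q) * Nat.card (Subgroup.center ↥(E Q)) :=
        Subgroup.card_eq_card_quotient_mul_card_subgroup _
      have hq2 : 2 ≤ Nat.card F := Finite.one_lt_card
      have h4 : (Nat.card F ^ 4 - 1) * (Nat.card F ^ 3 + 1) * (c * Nat.card S) =
          (Nat.card F ^ 4 - 1) * (Nat.card F ^ 3 + 1) *
            (Nat.card (Subgroup.center ↥(E Q)) * k * (Nat.card F ^ 4 - 1) * (Nat.card F ^ 3 - 1)) := by
        have h5 : Nat.card F ^ 6 - 1 = (Nat.card F ^ 3 + 1) * (Nat.card F ^ 3 - 1) := by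
          rw [show 6 = 3 * 2 by norm_num, pow_mul]
          exact Nat.sq_sub_sq (Nat.card F ^ 3) 1
        rw [h5] at hck
        calc (Nat.card F ^ 4 - 1) * (Nat.card F ^ 3 + 1) * (c * Nat.card S)
            = c * ((Nat.card F ^ 4 - 1) * (Nat.card F ^ 3 + 1) * Nat.card S) := by ring
          _ = (c * Nat.card (P Q)) * Nat.card (Subgroup.center ↥(E Q)) := by rw [h2, h3]; ring
          _ = _ := by rw [hck]; ring
      have h5 : 0 < (Nat.card F ^ 4 - 1) * (Nat.card F ^ 3 + 1) := by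
        apply Nat.mul_pos _ (Nat.succ_pos _)
        have := Nat.one_lt_pow (n := 4) (by norm_num) (show 1 < Nat.card F by omega)
        omega
      have h6 := Nat.eq_of_mul_eq_mul_left h5 h4
      have h7 : l ∣ c * Nat.card S := by
        rw [h6]
        exact Dvd.dvd.mul_right (Dvd.dvd.mul_left hdiv _) _
      rcases hl.dvd_mul.1 h7 with h8 | h8
      · exfalso
        have h9 : l ∣ 2 ^ 2 := h8.trans hc
        exact hl2 ((Nat.prime_dvd_prime_iff_eq hl Nat.prime_two).1 (hl.dvd_of_dvd_pow h9))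
      · exact h8
    obtain ⟨⟨y, hyS⟩, hy⟩ := exists_prime_orderOf_dvd_card' l h1
    refine ⟨y, ?_, ?_, hyS⟩
    · have h2 := congrArg Subtype.val (pow_orderOf_eq_one (⟨y, hyS⟩ : S))
      rw [hy] at h2
      exact h2
    · rintro rfl
      have h2 : (⟨1, hyS⟩ : S) = 1 := rfl
      rw [h2, orderOf_one] at hy
      exact hl.one_lt.ne hy
  have hpF : ((3 : ℕ) : F) ≠ 0 := by exact_mod_cast h3F
  have hy' : en Q y ^ l = 1 := by rw [← map_pow, hy, map_one]
  right; right
  refine ⟨QuotientGroup.mk y, not_dvd_orderOf hG hl2 (by omega) hy hy1,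
    pcent hG (by norm_num) hl2 (by omega) hpF hy (by omega), fun g hg => ?_⟩
  have hno : ¬ PtA hG (g * a * g⁻¹) := by
    rw [← hΓ]
    exact conj_notMem hΓ3 ha3 ha g
  obtain ⟨W, hW, hW4, hyW⟩ := exists_four hG h8 hno hg hv hv0 hyv
  refine false_of_four hG h8 hy1 hlF hy hW hW4 hyW ?_
  -- `R y` has dimension `4` and is nondegenerate
  have h1 := finrank_add (en Q y)
  have h2 : finrank F (K (en Q y)) ≠ 0 := by
    intro h0
    have h3 : v ∈ K (en Q y) := mem_K.2 hyv
    rw [Submodule.finrank_eq_zero.1 h0] at h3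
    exact hv0 h3
  obtain ⟨c, hc⟩ := dvd_finrank_R hd hlF hy'
  have hRW : ∀ w ∈ R (en Q y) ⊓ W, en Q y w ∈ R (en Q y) ⊓ W := fun w hw => ⟨R_inv rfl hw.1, hyW w hw.2⟩
  obtain ⟨c', hc'⟩ := dvd_finrank_le hd hlF hy' (W := R (en Q y) ⊓ W) inf_le_left hRW
  have h4 := finrank_ti_le (fun v hv h => nondeg_R (isom_en y) (polar_nondeg hG) hy' hlF hv h)
    (inf_le_left (b := W)) (fun u hu v hv => hW.polar hu.2 hv.2)
  rw [← Submodule.finrank_eq_zero (R := F)]
  omega

end Cfsg.Agent.H200.RowOrth
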