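import Cfsg.Agent.H200.RowOrthE
import Cfsg.Agent.S0292
import Cfsg.Agent.S0294

/-!
# Rows of S4329 : `POmega_{2n+1}(q)` and `POmega^-_{2n}(q)` (helper200)
-/

set_option autoImplicit false
set_option linter.unusedSectionVars false

namespace Cfsg.Agent.H200.RowOrth

open QuadraticMap Module Cfsg Cfsg.Agent.LieClassical.OrthCore Cfsg.Agent.LieClassical.OrthTrans
open Cfsg.Agent.ClassicalGeometry.OrthSemi Cfsg.Agent.ClassicalGeometry.OrthAut1 Cfsg.Agent.AutOrth.Main
open Cfsg.Agent.H200.LinFix Cfsg.Agent.H568 Cfsg.Agent.LieClassical.QuadForms Cfsg.Agent.H208.Dict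
open scoped commutatorElement

theorem not_comm_P {F V : Type*} [Field F] [AddCommGroup V] [Module F V] {Q : QuadraticForm F V} (hG : Good Q)
    [IsSimpleGroup (P Q)] : ¬ IsMulCommutative (P Q) := by
  intro h
  obtain ⟨x, hx⟩ := _root_.exists_ne (1 : P Q)
  apply hx
  obtain ⟨y, rfl⟩ := QuotientGroup.mk_surjective x
  rw [QuotientGroup.eq_one_iff]
  have h1 : commutator ↥(E Q) ≤ Subgroup.center ↥(E Q) := by
    rw [commutator_def, Subgroup.commutator_le]
    intro a _ b _
    rw [← QuotientGroup.eq_one_iff]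
    change (⁅(QuotientGroup.mk a : P Q), QuotientGroup.mk b⁆ : P Q) = 1
    rw [commutatorElement_eq_one_iff_mul_comm]
    exact h.is_comm.comm _ _
  rw [commutator_E hG] at h1
  exact h1 (Subgroup.mem_top y)

section transfer

variable {ι : Type} [Fintype ι] [DecidableEq ι] {F : Type*} [Field F] {Q : QuadraticForm F (ι → F)}

theorem exists_gam' (hG : Good Q) (hall : ∀ α : MulAut (POmega F ⇑Q), Ind ⇑Q α) (a : MulAut (P Q)) :
    ∃ M : Gam Q, a = Psi Q M := by
  obtain ⟨M, -, -, -, hM⟩ := exists_gam hG hall ((trE hG).symm a)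
  refine ⟨M, ?_⟩
  rw [← hM, ← trE_apply, MulEquiv.apply_symm_apply]

theorem isSimple_P (hG : Good Q) (h : IsSimpleGroup (POmega F ⇑Q)) : IsSimpleGroup (P Q) :=
  ((pe hG).isSimpleGroup_congr).1 h

theorem card_P (hG : Good Q) : Nat.card (P Q) = Nat.card (POmega F ⇑Q) := (Nat.card_congr (pe hG).toEquiv).symm

end transfer

universe u

variable {K : Type u} [Group K] [Finite K] [IsSimpleGroup K]

/-- **Row of `POmega_{2n+1}(q)`.** -/
theorem row_oodd (h : IsPOmegaOdd K) (p : ℕ) [Fact p.Prime] (hp : p ≠ 2) : Row p K := by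
  obtain ⟨F, _, _, m, hm, hodd, ⟨e⟩⟩ := h
  have h2 : (2 : F) ≠ 0 := by
    intro h0
    have h3 : CharP F 2 := (CharP.charP_iff_prime_eq_zero Nat.prime_two).2 (by exact_mod_cast h0)
    have h4 := FiniteField.even_card_of_char_two ((CharP.eq F (ringChar.charP F) h3))
    rw [Nat.odd_iff] at hodd
    omega
  have hs : IsSimpleGroup (POmega F (quadFormOdd m F)) := (e.isSimpleGroup_congr).1 inferInstance
  have hcard := S0292.result (F := F) rfl hodd m hm
  have hall := all_odd (F := F) hm h2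
  refine Row.congr e.symm ?_
  revert hs hcard hall
  rw [← coe_oddForm]
  intro hs hcard hall
  have hG : Good (oddForm m F) := good_odd (by omega) h2
  have hsP := isSimple_P hG hs
  refine Row.congr (pe hG).symm ?_
  have key : ∀ i, i < m → ∀ l : ℕ, l.Prime → l ≠ 2 → l ∣ Nat.card F ^ (2 * (i + 1)) - 1 → l ∣ Nat.card (P (oddForm m F)) := by
    intro i hi l hl hl2 hd
    rw [card_P hG]
    rw [Nat.card_eq_fintype_card (α := F)] at hd
    have h3 : l ∣ 2 * Nat.card (POmega F ⇑(oddForm m F)) := by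
      rw [hcard]
      exact Dvd.dvd.mul_left (hd.trans (Finset.dvd_prod_of_mem (fun i => Fintype.card F ^ (2 * (i + 1)) - 1)
        (Finset.mem_range.2 hi))) _
    rcases hl.dvd_mul.1 h3 with h4 | h4
    · exact absurd ((Nat.prime_dvd_prime_iff_eq hl Nat.prime_two).1 h4) hl2
    · exact h4
  refine row_odd_abs hG (not_comm_P hG) hp h2 hm ?_ (exists_gam' hG hall) (fun l hl hl2 hd => ?_) (fun l hl hl2 hd => ?_)
  · rw [Module.finrank_fintype_fun_eq_card]
    simp
    omega
  · refine key (m - 1) (by omega) l hl hl2 ?_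
    rwa [Nat.sub_add_cancel (by omega)]
  · refine key (m - 2) (by omega) l hl hl2 ?_
    rwa [show m - 2 + 1 = m - 1 by omega]

/-- **Row of `POmega^-_{2n}(q)`.** -/
theorem row_ominus (h : IsPOmegaMinus K) (p : ℕ) [Fact p.Prime] (hp : p ≠ 2) : Row p K := by
  obtain ⟨F, _, _, m, a, b, hm, hab, ⟨e⟩⟩ := h
  have hs : IsSimpleGroup (POmega F (quadFormMinus (m - 1) F a b)) := (e.isSimpleGroup_congr).1 inferInstance
  have hcard := S0294.result (F := F) rfl m hm a b hab
  have hall := all_minus (F := F) (m := m - 1) (by omega) hab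
  refine Row.congr e.symm ?_
  revert hs hcard hall
  rw [← coe_minusForm]
  intro hs hcard hall
  have hG : Good (minusForm (m - 1) F a b) := good_minus (by omega) hab
  have hsP := isSimple_P hG hs
  refine Row.congr (pe hG).symm ?_
  have key : ∀ l : ℕ, l.Prime → l ≠ 2 → l ∣ (Nat.card F ^ m + 1) * ∏ i ∈ Finset.range (m - 1), (Nat.card F ^ (2 * (i + 1)) - 1) →
      l ∣ Nat.card (P (minusForm (m - 1) F a b)) := by
    intro l hl hl2 hd
    rw [card_P hG]
    rw [Nat.card_eq_fintype_card (α := F)] at hd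
    have h3 : l ∣ Nat.gcd 4 (Fintype.card F ^ m + 1) * Nat.card (POmega F ⇑(minusForm (m - 1) F a b)) := by
      rw [hcard, mul_assoc]
      exact Dvd.dvd.mul_left hd _
    rcases hl.dvd_mul.1 h3 with h4 | h4
    · exfalso
      have h5 : l ∣ 2 ^ 2 := h4.trans (Nat.gcd_dvd_left _ _)
      exact hl2 ((Nat.prime_dvd_prime_iff_eq hl Nat.prime_two).1 (hl.dvd_of_dvd_pow h5))
    · exact h4
  refine row_minus_abs hG (not_comm_P hG) hp hm ?_ (exists_gam' hG hall) (fun l hl hl2 hd => ?_) (fun l hl hl2 hd => ?_)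
  · rw [Module.finrank_fintype_fun_eq_card]
    simp
    omega
  · exact key l hl hl2 (Dvd.dvd.mul_right hd _)
  · refine key l hl hl2 (Dvd.dvd.mul_left ?_ _)
    refine Dvd.dvd.trans ?_ (Finset.dvd_prod_of_mem (fun i => Nat.card F ^ (2 * (i + 1)) - 1)
      (Finset.mem_range.2 (show m - 2 < m - 1 by omega)))
    change l ∣ Nat.card F ^ (2 * (m - 2 + 1)) - 1
    rwa [show m - 2 + 1 = m - 1 by omega]

end Cfsg.Agent.H200.RowOrth
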