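import Cfsg.Agent.H200.RowOrthE

/-!
# Rows of S4329 for orthogonal groups: plus type, abstract form (helper200)
-/

set_option autoImplicit false
set_option linter.unusedSectionVars false

namespace Cfsg.Agent.H200.RowOrth

open QuadraticMap Module Cfsg.Agent.LieClassical.OrthCore Cfsg.Agent.LieClassical.OrthTrans
open Cfsg.Agent.ClassicalGeometry.OrthSemi Cfsg.Agent.ClassicalGeometry.OrthAut1
open Cfsg.Agent.H200.LinFix Cfsg.Agent.H568

theorem arith_plus {p q n d : ℕ} [hp : Fact p.Prime] (hp2 : p ≠ 2) (hn : 1 ≤ n) (hq : 1 ≤ q) (hdo : Odd d)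
    (hd : d = n ∨ d = n - 1) (h1 : p ∣ q ^ (n - 1) + 1) (h2 : p ∣ q ^ d - 1) : False := by
  have h4 : ((2 : ℕ) : ZMod p) ≠ 0 := by
    intro h4
    rw [ZMod.natCast_eq_zero_iff] at h4
    exact hp2 ((Nat.prime_dvd_prime_iff_eq hp.out Nat.prime_two).1 h4)
  rw [← ZMod.natCast_eq_zero_iff] at h1 h2
  rw [Nat.cast_sub (Nat.one_le_pow _ _ hq)] at h2
  push_cast at h1 h2 h4
  apply h4
  rcases hd with rfl | rfl
  · obtain ⟨k, rfl⟩ := Nat.exists_eq_add_of_le' hn
    rw [Nat.add_sub_cancel] at h1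
    have hk : Even k := by
      rcases Nat.even_or_odd k with h | h
      · exact h
      · exact absurd (h.add_one) (by rw [Nat.not_even_iff_odd]; exact hdo)
    have h5 : (q : ZMod p) ^ k = -1 := eq_neg_of_add_eq_zero_left h1
    have h6 : (q : ZMod p) = -1 := by
      rw [pow_succ, h5] at h2
      linear_combination -h2
    rw [h6, hk.neg_one_pow] at h5
    linear_combination h5
  · linear_combination h1 - h2

/-- Primitive primes of odd degree. -/
theorem exists_prim_odd {q d : ℕ} (hq : 2 ≤ q) (hd3 : 3 ≤ d) (hdo : Odd d) :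
    ∃ l : ℕ, l.Prime ∧ l ≠ 2 ∧ l ∣ q ^ d - 1 ∧ d + 1 ≤ l ∧ Ordd l q d ∧ ¬ l ∣ q := by
  obtain ⟨l, hl, hm, hd, hlr⟩ := Cfsg.Agent.Lib.Zsigmondy.exists_primitive (a := q) (n := d) hq (by omega)
    (by omega) (by
      rintro ⟨-, rfl⟩
      exact absurd hdo (by decide))
  have hle : d + 1 ≤ l := by
    have h1 := Nat.le_of_dvd (by have := hl.two_le; omega) hd
    have := hl.two_le
    omega
  exact ⟨l, hl, by omega, (hm _).2 dvd_rfl, hle, fun m h => (hm m).1 h, hlr⟩

variable {F V : Type*} [Field F] [AddCommGroup V] [Module F V] {Q : QuadraticForm F V}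

/-- The three alternatives of `row_of`. -/
def Alt {S : Type*} [Group S] (p : ℕ) [Fact p.Prime] (a : MulAut S) : Prop :=
  ((∃ s : S, a = MulAut.conj s) ∧ ∃ P : Sylow p S, IsCyclic ↥(P : Subgroup S)) ∨
  ((∃ s : S, a = MulAut.conj s) ∧ ∃ x : S, NoNorm p x) ∨
  ∃ x : S, ¬ p ∣ orderOf x ∧ PCent p x ∧ ∀ g : MulAut S, (g * a * g⁻¹) x ≠ x

/-! ### counting singular vectors -/

section count

variable [Finite V]

/-- The number of singular vectors modulo `l`. -/
theorem card_sing_modEq {l : ℕ} [hl : Fact l.Prime] {y : ↥(E Q)} (hy : y ^ l = 1) :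
    Nat.card {v : V // Q v = 0} ≡ Nat.card {v : V // v ∈ K (en Q y) ∧ Q v = 0} [MOD l] := by
  classical
  let f : Function.End {v : V // Q v = 0} := fun v => ⟨(y : V ≃ₗ[F] V) v, by rw [E_le_O y.2]; exact v.2⟩
  have hfk : ∀ (k : ℕ) (w : {v : V // Q v = 0}), (((f ^ k) w : {v : V // Q v = 0}) : V) = (en Q y ^ k) w := by
    intro k
    induction k with
    | zero => intro w; rfl
    | succ k ih =>
      intro w
      rw [pow_succ', pow_succ', Module.End.mul_apply, ← ih]
      rfl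
  have hf : f ^ l ^ 1 = 1 := by
    funext w
    apply Subtype.ext
    rw [hfk, pow_one, ← map_pow, hy, map_one]
    rfl
  have hft : Fintype {v : V // Q v = 0} := Fintype.ofFinite _
  have h1 := Equiv.Perm.card_fixedPoints_modEq (p := l) (n := 1) hf
  rw [Nat.card_eq_fintype_card]
  refine h1.trans ?_
  rw [← Nat.card_eq_fintype_card]
  have h2 : Nat.card (Function.fixedPoints f) = Nat.card {v : V // v ∈ K (en Q y) ∧ Q v = 0} := by
    refine Nat.card_congr ⟨fun v => ⟨v.1.1, ?_, v.1.2⟩, fun v => ⟨⟨v.1, v.2.2⟩, ?_⟩, fun v => rfl, fun v => rfl⟩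
    · rw [mem_K]
      exact congrArg Subtype.val v.2
    · exact Subtype.ext (mem_K.1 v.2.1)
  rw [h2]

/-- The number of singular vectors of a nondegenerate plane containing a nonzero one. -/
theorem card_sing_plane {U : Submodule F V} (hU : finrank F U = 2) (hnd : ∀ v ∈ U, (∀ u ∈ U, polarBilin Q u v = 0) → v = 0)
    {v : V} (hv : v ∈ U) (hv0 : v ≠ 0) (hQv : Q v = 0) :
    Nat.card {v : V // v ∈ U ∧ Q v = 0} = 2 * Nat.card F - 1 := by
  classical
  have hfd : FiniteDimensional F V := inferInstance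
  -- a hyperbolic pair
  obtain ⟨w, hw, hvw, hQw⟩ : ∃ w ∈ U, polar Q v w = 1 ∧ Q w = 0 := by
    by_contra hcon
    push Not at hcon
    apply hv0
    apply hnd v hv
    intro u hu
    by_contra hne
    rw [polarBilin_apply_apply, polar_comm] at hne
    obtain ⟨w₁, hw₁, h1⟩ : ∃ w₁ ∈ U, polar Q v w₁ = 1 :=
      ⟨(polar Q v u)⁻¹ • u, U.smul_mem _ hu, by rw [polar_smul_right, smul_eq_mul, inv_mul_cancel₀ hne]⟩
    refine hcon (w₁ - Q w₁ • v) (U.sub_mem hw₁ (U.smul_mem _ hv)) ?_ ?_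
    · rw [polar_sub_right, polar_smul_right, h1, polar_self_of_sing hQv, smul_zero, sub_zero]
    · rw [sub_eq_add_neg, Q_add, ← neg_smul, QuadraticMap.map_smul, hQv, polar_smul_right, polar_comm, h1]
      simp
  have hlin : ∀ a b : F, a • v + b • w = 0 → a = 0 ∧ b = 0 := by
    intro a b h
    have h1 : polar Q v (a • v + b • w) = b := by
      rw [polar_add_right, polar_smul_right, polar_smul_right, hvw, polar_self_of_sing hQv]; simp
    have h2 : polar Q w (a • v + b • w) = a := by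
      rw [polar_add_right, polar_smul_right, polar_smul_right, polar_self_of_sing hQw, polar_comm, hvw]; simp
    rw [h, polar_zero_right] at h1 h2
    exact ⟨h2.symm, h1.symm⟩
  let φ : (F × F) →ₗ[F] U :=
    { toFun := fun c => ⟨c.1 • v + c.2 • w, U.add_mem (U.smul_mem _ hv) (U.smul_mem _ hw)⟩
      map_add' := fun c d => Subtype.ext (by
        change (c.1 + d.1) • v + (c.2 + d.2) • w = (c.1 • v + c.2 • w) + (d.1 • v + d.2 • w)
        rw [add_smul, add_smul]; abel)
      map_smul' := fun a c => Subtype.ext (by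
        change (a * c.1) • v + (a * c.2) • w = a • (c.1 • v + c.2 • w)
        rw [mul_smul, mul_smul, smul_add]) }
  have hφi : Function.Injective φ := by
    rw [← LinearMap.ker_eq_bot, LinearMap.ker_eq_bot']
    intro c hc
    obtain ⟨h1, h2⟩ := hlin c.1 c.2 (congrArg Subtype.val hc)
    exact Prod.ext h1 h2
  have hφs : Function.Surjective φ := by
    rw [← LinearMap.range_eq_top]
    apply Submodule.eq_top_of_finrank_eq
    rw [LinearMap.finrank_range_of_inj hφi, hU]
    simp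
  have hQφ : ∀ c : F × F, Q (c.1 • v + c.2 • w) = c.1 * c.2 := by
    intro c
    rw [Q_add, QuadraticMap.map_smul, QuadraticMap.map_smul, hQv, hQw, polar_smul_left, polar_smul_right, hvw]
    simp
  let e : {c : F × F // c.1 * c.2 = 0} ≃ {v : V // v ∈ U ∧ Q v = 0} :=
    Equiv.ofBijective (fun c => ⟨φ c.1, (φ c.1).2, by
      change Q (c.1.1 • v + c.1.2 • w) = 0
      rw [hQφ]; exact c.2⟩) (by
      constructor
      · intro c d h
        have h1 : ((φ c.1 : U) : V) = (φ d.1 : U) := congrArg (fun x : {v : V // v ∈ U ∧ Q v = 0} => (x : V)) h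
        exact Subtype.ext (hφi (Subtype.ext h1))
      · rintro ⟨u, hu, hQu⟩
        obtain ⟨c, hc⟩ := hφs ⟨u, hu⟩
        have h1 : c.1 • v + c.2 • w = u := congrArg Subtype.val hc
        refine ⟨⟨c, ?_⟩, Subtype.ext h1⟩
        rw [← hQφ, h1, hQu])
  rw [← Nat.card_congr e]
  have hF : Finite F := by
    exact Finite.of_injective (fun a : F => a • v) (smul_left_injective F hv0)
  -- `{c | c.1 * c.2 = 0}`
  have h3 : Nat.card {c : F × F // c.1 * c.2 = 0} = Nat.card (F ⊕ Fˣ) := by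
    refine Nat.card_congr ⟨fun c => if h : c.1.2 = 0 then Sum.inl c.1.1 else Sum.inr (Units.mk0 c.1.2 h),
      Sum.elim (fun a => ⟨(a, 0), mul_zero a⟩) (fun b => ⟨(0, b), zero_mul _⟩), ?_, ?_⟩
    · rintro ⟨⟨a, b⟩, hab⟩
      by_cases h : b = 0
      · subst h
        simp
      · have ha : a = 0 := (mul_eq_zero.1 hab).resolve_right h
        subst ha
        simp [h]
    · rintro (a | b)
      · simp
      · simp
  rw [h3, Nat.card_sum, Nat.card_units]
  have := Nat.card_pos (α := F)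
  omega

end count

section plus

variable [Finite V] [Finite F]

/-- No nonzero singular vector in `K y₁`. -/
theorem no_sing_K {n : ℕ} (hG : Good Q) (hn : 3 ≤ n) (hV : finrank F V = 2 * n)
    (hsing : Nat.card {v : V // Q v = 0} = (Nat.card F ^ n - 1) * (Nat.card F ^ (n - 1) + 1) + 1)
    {l : ℕ} [hl : Fact l.Prime] (hl2 : l ≠ 2) (hlF : (l : F) ≠ 0) (hd : Ordd l (Nat.card F) (2 * (n - 1)))
    (hl1 : l ∣ Nat.card F ^ (n - 1) + 1) {y : ↥(E Q)} (hy : y ^ l = 1) (hy1 : y ≠ 1) {v : V} (hv : v ∈ K (en Q y))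
    (hQv : Q v = 0) : v = 0 := by
  have hfd : FiniteDimensional F V := inferInstance
  by_contra hv0
  have hy' : en Q y ^ l = 1 := by rw [← map_pow, hy, map_one]
  have h1 := finrank_add (en Q y)
  rw [finrank_R_eq hd hlF (by omega) hy hy1, hV] at h1
  have h2 := card_sing_modEq (Q := Q) hy
  rw [card_sing_plane (by omega) (fun w hw h => nondeg_K (isom_en y) (polar_nondeg hG) hy' hlF hw h) hv hv0 hQv,
    hsing] at h2
  have h3 : (Nat.card F ^ n - 1) * (Nat.card F ^ (n - 1) + 1) + 1 ≡ 1 [MOD l] := by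
    have h4 := Nat.modEq_zero_iff_dvd.2 (Dvd.dvd.mul_left hl1 (Nat.card F ^ n - 1))
    exact h4.add_right 1
  have h4 := h3.symm.trans h2
  have hq : 1 < Nat.card F := Finite.one_lt_card
  have h5 : l ∣ 2 * Nat.card F - 1 - 1 := (Nat.modEq_iff_dvd' (by omega)).1 h4
  have h6 : 2 * Nat.card F - 1 - 1 = 2 * (Nat.card F ^ 1 - 1) := by rw [pow_one]; omega
  rw [h6, hl.out.dvd_mul] at h5
  rcases h5 with h5 | h5
  · exact hl2 ((Nat.prime_dvd_prime_iff_eq hl.out Nat.prime_two).1 h5)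
  · have h7 := Nat.le_of_dvd one_pos (hd 1 h5)
    omega

/-- A nonzero singular vector in `K y₂`, `n` even. -/
theorem sing_K {n : ℕ} (hn : 3 ≤ n)
    (hsing : Nat.card {v : V // Q v = 0} = (Nat.card F ^ n - 1) * (Nat.card F ^ (n - 1) + 1) + 1)
    {l : ℕ} [hl : Fact l.Prime] (hl2 : l ≠ 2) (hd : Ordd l (Nat.card F) (n - 1))
    (hl1 : l ∣ Nat.card F ^ (n - 1) - 1) {y : ↥(E Q)} (hy : y ^ l = 1) : ∃ v ∈ K (en Q y), v ≠ 0 ∧ Q v = 0 := by
  by_contra hcon
  push Not at hcon
  have h2 := card_sing_modEq (Q := Q) hy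
  have h3 : Nat.card {v : V // v ∈ K (en Q y) ∧ Q v = 0} = 1 := by
    rw [Nat.card_eq_one_iff_unique]
    refine ⟨⟨fun a b => Subtype.ext ?_⟩, ⟨⟨0, Submodule.zero_mem _, QuadraticMap.map_zero _⟩⟩⟩
    have h4 : ∀ a : {v : V // v ∈ K (en Q y) ∧ Q v = 0}, (a : V) = 0 := fun a => by
      by_contra h
      exact hcon a a.2.1 h a.2.2
    rw [h4 a, h4 b]
  rw [h3, hsing] at h2
  have h4 : l ∣ (Nat.card F ^ n - 1) * (Nat.card F ^ (n - 1) + 1) + 1 - 1 :=
    (Nat.modEq_iff_dvd' (by omega)).1 h2.symm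
  rw [Nat.add_sub_cancel, hl.out.dvd_mul] at h4
  rcases h4 with h4 | h4
  · have h5 := hd n h4
    have h6 : n - 1 ∣ 1 := by
      have h7 : n = (n - 1) + 1 := by omega
      rw [h7] at h5
      rw [Nat.add_sub_cancel] at h5
      exact (Nat.dvd_add_right dvd_rfl).1 h5
    have := Nat.le_of_dvd one_pos h6
    omega
  · apply hl2
    have h5 : 1 ≤ Nat.card F ^ (n - 1) := Nat.one_le_pow _ _ Nat.card_pos
    have h6 : l ∣ (Nat.card F ^ (n - 1) + 1) - (Nat.card F ^ (n - 1) - 1) := Nat.dvd_sub h4 hl1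
    have h7 : (Nat.card F ^ (n - 1) + 1) - (Nat.card F ^ (n - 1) - 1) = 2 := by omega
    rw [h7] at h6
    exact (Nat.prime_dvd_prime_iff_eq hl.out Nat.prime_two).1 h6

/-- `dim R y₂ = 2 d`. -/
theorem finrank_R_odd (hG : Good Q) {l d : ℕ} [hl : Fact l.Prime] (hl2 : l ≠ 2) (hlF : (l : F) ≠ 0)
    (hd : Ordd l (Nat.card F) d) (hdo : Odd d) (hV : finrank F V < 3 * d) {y : ↥(E Q)} (hy : y ^ l = 1) (hy1 : y ≠ 1) :
    finrank F (R (en Q y)) = 2 * d := by
  have hfd : FiniteDimensional F V := inferInstance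
  have hy' : en Q y ^ l = 1 := by rw [← map_pow, hy, map_one]
  obtain ⟨c, hc⟩ := dvd_finrank_R hd hlF hy'
  have h2 : finrank F (R (en Q y)) ≤ finrank F V := Submodule.finrank_le _
  have hne : R (en Q y) ≠ ⊥ := by
    intro h0
    rw [R_eq_bot] at h0
    exact hy1 (en_injective (h0.trans (map_one _).symm))
  have h3 : finrank F (R (en Q y)) ≠ 0 := fun h => hne (Submodule.finrank_eq_zero.1 h)
  have h4 : c < 3 := by
    by_contra h
    push Not at h
    nlinarith
  have hW : ∀ w ∈ R (en Q y), en Q y w ∈ R (en Q y) := fun w hw => R_inv rfl hw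
  interval_cases c
  · omega
  · exfalso
    have hdim : finrank F (R (en Q y)) = d := by omega
    have h5 := even_of_irr hl2 hlF hy' le_rfl hW (irr_of_lt hd hlF hy' le_rfl hW (by omega)) hne (polarBilin Q)
      (fun u _ v _ => isom_en y u v) (fun v hv hv' => nondeg_R (isom_en y) (polar_nondeg hG) hy' hlF hv hv')
    rw [hdim] at h5
    exact (Nat.not_even_iff_odd.2 hdo) h5
  · omega

/-- **Plus type, the first element.** `t` commuting with some element of order `l₁`. -/
theorem plus_first (hG : Good Q) {p : ℕ} [hp : Fact p.Prime] (hp2 : p ≠ 2) (hpF : (p : F) ≠ 0) {n : ℕ} (hn : 4 ≤ n)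
    (hV : finrank F V = 2 * n) {l : ℕ} [hl : Fact l.Prime] (hl2 : l ≠ 2) (hlF : (l : F) ≠ 0)
    (hd : Ordd l (Nat.card F) (2 * (n - 1))) {y t : ↥(E Q)} (hy : y ^ l = 1) (hy1 : y ≠ 1) (ht : t ^ p = 1) (ht1 : t ≠ 1)
    (hty : t * y = y * t) :
    (R (en Q t) = K (en Q y) ∧ finrank F (R (en Q t)) = 2) ∨
      (2 * (n - 1) ≤ finrank F (R (en Q t)) ∧ p ∣ Nat.card F ^ (n - 1) + 1) := by
  have hfd : FiniteDimensional F V := inferInstance
  have hVe : finrank F V < 2 * (2 * (n - 1)) := by omega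
  have ht' : en Q t ≠ 1 := fun h => ht1 (en_injective (h.trans (map_one _).symm))
  have h2 := finrank_add (en Q y)
  rw [finrank_R_eq hd hlF hVe hy hy1, hV] at h2
  rcases comm_elt hG hl2 hlF hy (irr_R hd hlF hVe hy) ht hty with h | ⟨h, m, hm, hpm⟩
  · left
    have h0 := R_le_K hlF hy hty h
    have h1 := Submodule.finrank_mono h0
    have h3 := finrank_R_ne_one hG hp2 hpF ht
    have h4 : finrank F (R (en Q t)) ≠ 0 := fun h => ht' (R_eq_bot.1 (Submodule.finrank_eq_zero.1 h))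
    exact ⟨Submodule.eq_of_le_of_finrank_le h0 (by omega), by omega⟩
  · right
    rw [finrank_R_eq hd hlF hVe hy hy1] at hm
    have hmn : m = n - 1 := by omega
    subst hmn
    refine ⟨?_, hpm⟩
    rw [← finrank_R_eq hd hlF hVe hy hy1]
    exact Submodule.finrank_mono h

/-- **Plus type, the second element.** -/
theorem plus_second (hG : Good Q) {p : ℕ} [hp : Fact p.Prime] (hp2 : p ≠ 2) (hpF : (p : F) ≠ 0) {n d : ℕ} (hn : 4 ≤ n)
    (hV : finrank F V = 2 * n) (hdo : Odd d) (hdn : d = n ∨ d = n - 1) {l : ℕ} [hl : Fact l.Prime] (hl2 : l ≠ 2)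
    (hlF : (l : F) ≠ 0) (hd : Ordd l (Nat.card F) d) (hld : l ∣ Nat.card F ^ d - 1) {y t : ↥(E Q)} (hy : y ^ l = 1)
    (hy1 : y ≠ 1) (ht : t ^ p = 1) (ht1 : t ≠ 1) (hty : t * y = y * t) :
    (R (en Q t) = K (en Q y) ∧ finrank F (R (en Q t)) = 2 ∧ d = n - 1) ∨
      (d ≤ finrank F (R (en Q t)) ∧ p ∣ Nat.card F ^ d - 1) := by
  have hfd : FiniteDimensional F V := inferInstance
  have hVd : finrank F V < 3 * d := by
    rcases hdn with rfl | rfl
    · omega
    · omega
  have ht' : en Q t ≠ 1 := fun h => ht1 (en_injective (h.trans (map_one _).symm))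
  have h2 := finrank_add (en Q y)
  have hR := finrank_R_odd hG hl2 hlF hd hdo hVd hy hy1
  rw [hR, hV] at h2
  have hy' : en Q y ^ l = 1 := by rw [← map_pow, hy, map_one]
  rcases comm_split hl2 hlF hy' (isom_en y) (polar_nondeg hG) hd hld hdo hR (s := en Q t)
    (by rw [← map_pow, ht, map_one]) hpF (isom_en t) (by rw [← map_mul, hty, map_mul]) with h | ⟨h, h'⟩
  · left
    have h0 := R_le_K hlF hy hty h
    have h1 := Submodule.finrank_mono h0
    have h3 := finrank_R_ne_one hG hp2 hpF ht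
    have h4 : finrank F (R (en Q t)) ≠ 0 := fun h => ht' (R_eq_bot.1 (Submodule.finrank_eq_zero.1 h))
    have h5 : d = n - 1 := by
      rcases hdn with rfl | rfl
      · omega
      · rfl
    exact ⟨Submodule.eq_of_le_of_finrank_le h0 (by omega), by omega, h5⟩
  · right
    exact ⟨h', h⟩

end plus

end Cfsg.Agent.H200.RowOrth
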