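import Cfsg.Agent.H200.LinFixD

/-!
# Isometries commuting with an element of odd degree (helper200)
-/

set_option autoImplicit false
set_option linter.unusedSectionVars false

namespace Cfsg.Agent.H200.LinFix

open Module Polynomial

variable {F V : Type*} [Field F] [AddCommGroup V] [Module F V] {b : LinearMap.BilinForm F V} [Finite V]
variable {l p : ℕ} [hl : Fact l.Prime] [hp : Fact p.Prime]

theorem pow_inv_mem {y : Module.End F V} {W : Submodule F V} (h : ∀ w ∈ W, y w ∈ W) (n : ℕ) :
    ∀ w ∈ W, (y ^ n) w ∈ W := by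
  induction n with
  | zero => intro w hw; exact hw
  | succ n ih => intro w hw; rw [pow_succ, Module.End.mul_apply]; exact ih _ (h w hw)

/-- The radical of an irreducible subspace. -/
theorem rad_of_irr {y : Module.End F V} (hy : y ^ l = 1) (hyb : Isom b y) {E : Submodule F V}
    (hyE : ∀ w ∈ E, y w ∈ E) (hirr : Irr y E) :
    (∀ v ∈ E, (∀ u ∈ E, b u v = 0) → v = 0) ∨ ∀ v ∈ E, ∀ u ∈ E, b u v = 0 := by
  let U : Submodule F V :=
    { carrier := {v | v ∈ E ∧ ∀ u ∈ E, b u v = 0}
      add_mem' := fun {a c} ha hc => ⟨E.add_mem ha.1 hc.1, fun u hu => by rw [map_add, ha.2 u hu, hc.2 u hu, add_zero]⟩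
      zero_mem' := ⟨E.zero_mem, fun u _ => map_zero _⟩
      smul_mem' := fun c v hv => ⟨E.smul_mem c hv.1, fun u hu => by rw [map_smul, hv.2 u hu, smul_zero]⟩ }
  rcases hirr U (fun v hv => hv.1) (by
    rintro v ⟨hv, hv'⟩
    refine ⟨hyE v hv, fun u hu => ?_⟩
    have h1 : u = y ((y ^ (l - 1)) u) := by
      rw [← Module.End.mul_apply, ← pow_succ', Nat.sub_add_cancel hl.out.one_le, hy]; rfl
    rw [h1, hyb]
    exact hv' _ (pow_inv_mem hyE _ u hu)) with h | h
  · left
    intro v hv hv'
    have h1 : v ∈ U := ⟨hv, hv'⟩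
    rw [h] at h1
    exact h1
  · right
    intro v hv
    have h1 : v ∈ U := by rw [h]; exact hv
    exact h1.2

/-- **`y` of odd degree `d` with `dim R y = 2 d`.** -/
theorem comm_split [Finite F] (hl2 : l ≠ 2) (hlF : (l : F) ≠ 0) {y : Module.End F V} (hy : y ^ l = 1) (hyb : Isom b y)
    (hb : ∀ v, (∀ u, b u v = 0) → v = 0) {d : ℕ} (hd : Ordd l (Nat.card F) d) (hld : l ∣ Nat.card F ^ d - 1)
    (hdo : Odd d) (hfr : finrank F (R y) = 2 * d) {s : Module.End F V} (hs : s ^ p = 1) (hpF : (p : F) ≠ 0)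
    (hsb : Isom b s) (hsy : s * y = y * s) :
    (∀ w ∈ R y, s w = w) ∨ (p ∣ Nat.card F ^ d - 1 ∧ d ≤ finrank F (R s)) := by
  have hfd : FiniteDimensional F V := inferInstance
  have hd0 : 0 < d := hdo.pos
  have hyW : ∀ w ∈ R y, y w ∈ R y := fun w hw => R_inv rfl hw
  have hsW : ∀ w ∈ R y, s w ∈ R y := fun w hw => R_inv hsy hw
  have hsy' : ∀ w, s (y w) = y (s w) := fun w => LinearMap.congr_fun hsy w
  have hW : R y ≠ ⊥ := by
    intro h
    rw [h, finrank_bot] at hfr
    omega
  have hsinj : Function.Injective s := by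
    intro u v h
    have h1 : (s ^ (p - 1)) (s u) = (s ^ (p - 1)) (s v) := by rw [h]
    rw [← Module.End.mul_apply, ← Module.End.mul_apply, ← pow_succ, Nat.sub_add_cancel hp.out.one_le, hs] at h1
    exact h1
  have hq1 : 1 ≤ Nat.card F ^ d := Nat.one_le_pow _ _ Nat.card_pos
  -- a proper invariant subspace
  obtain ⟨E, hEW, hyE, hE0, hEne⟩ : ∃ E : Submodule F V, E ≤ R y ∧ (∀ w ∈ E, y w ∈ E) ∧ E ≠ ⊥ ∧ E ≠ R y := by
    by_contra hcon
    push Not at hcon
    have hirr : Irr y (R y) := fun U hU hyU => by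
      by_cases h : U = ⊥
      · exact Or.inl h
      · exact Or.inr (hcon U hU hyU h)
    obtain ⟨w, hw, hw0⟩ := Submodule.exists_mem_ne_zero_of_ne_bot hW
    obtain ⟨m, hm, hU⟩ := unitary_on (l := l - 1) hW hyW hirr b (fun u _ v _ => hyb u v)
      (fun v hv hv' => nondeg_R hyb hb hy hlF hv hv')
      (by rw [Nat.sub_add_cancel hl.out.one_le, hy])
      ⟨w, hw, fun h1 => hw0 (eq_zero_of_mem hy hlF (fix_of_sq hl2 hy h1) hw)⟩
    have hmd : m = d := by omega
    subst hmd
    apply hw0
    refine eq_zero_of_mem hy hlF ?_ hw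
    refine fix_of_coprime (hU y hyW (fun w _ => rfl) (fun u _ v _ => hyb u v) w hw)
      (by rw [hy]; rfl) ?_
    refine ((Nat.Prime.coprime_iff_not_dvd hl.out).2 fun h => ?_).symm
    apply hl2
    have h3 : l ∣ 2 := by
      have h4 : Nat.card F ^ m + 1 - (Nat.card F ^ m - 1) = 2 := by omega
      rw [← h4]
      exact Nat.dvd_sub h hld
    exact (Nat.prime_dvd_prime_iff_eq hl.out Nat.prime_two).1 h3
  have hEd : finrank F E = d := by
    obtain ⟨c, hc⟩ := dvd_finrank_le hd hlF hy hEW hyE
    have h1 : finrank F E < finrank F (R y) := Submodule.finrank_lt_finrank_of_lt (lt_of_le_of_ne hEW hEne)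
    have h2 : finrank F E ≠ 0 := fun h => hE0 (Submodule.finrank_eq_zero.1 h)
    have h3 : c < 2 := by
      by_contra h
      push Not at h
      nlinarith
    interval_cases c <;> omega
  have hirr : Irr y E := irr_of_lt hd hlF hy hEW hyE (by omega)
  have hnotEven : ¬ Even (finrank F E) := by rw [hEd]; exact Nat.not_even_iff_odd.2 hdo
  -- totally isotropic
  have hti : ∀ v ∈ E, ∀ u ∈ E, b u v = 0 := by
    rcases rad_of_irr hy hyb hyE hirr with h | h
    · exact absurd (even_of_irr hl2 hlF hy hEW hyE hirr hE0 b (fun u _ v _ => hyb u v) h) hnotEven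
    · exact h
  -- `E` is `s`-invariant
  have hsE : ∀ w ∈ E, s w ∈ E := by
    have hE'y : ∀ w ∈ E.map s, y w ∈ E.map s := by
      rintro _ ⟨w, hw, rfl⟩
      exact ⟨y w, hyE w hw, hsy' w⟩
    have hE'd : finrank F (E.map s) = d := by
      rw [← hEd]
      exact (Submodule.equivMapOfInjective s hsinj E).symm.finrank_eq
    have hE'W : E.map s ≤ R y := by
      rintro _ ⟨w, hw, rfl⟩
      exact hsW w (hEW hw)
    rcases hirr (E ⊓ E.map s) inf_le_left (fun u hu => ⟨hyE u hu.1, hE'y u hu.2⟩) with h | h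
    · exfalso
      have hsup : E ⊔ E.map s = R y := by
        apply Submodule.eq_of_le_of_finrank_le (sup_le hEW hE'W)
        have h1 := Submodule.finrank_sup_add_finrank_inf_eq E (E.map s)
        rw [h, finrank_bot, hE'd, hEd] at h1
        omega
      apply hnotEven
      refine even_of_irr hl2 hlF hy hEW hyE hirr hE0 (b.compRight s) (fun u _ v _ => ?_) ?_
      · rw [LinearMap.BilinForm.compRight_apply, LinearMap.BilinForm.compRight_apply, hsy', hyb]
      · intro v hv hv'
        apply hsinj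
        rw [map_zero]
        refine nondeg_R hyb hb hy hlF (hsW v (hEW hv)) fun u hu => ?_
        rw [← hsup] at hu
        obtain ⟨u1, hu1, u2, ⟨u3, hu3, rfl⟩, rfl⟩ := Submodule.mem_sup.1 hu
        rw [map_add, LinearMap.add_apply, hsb, hti v hv u3 hu3, add_zero]
        exact hv' u1 hu1
    · intro w hw
      have h1 : E = E.map s := Submodule.eq_of_le_of_finrank_eq (by
        intro x hx
        have h2 : x ∈ E ⊓ E.map s := by rw [h]; exact hx
        exact h2.2) (by rw [hE'd, hEd])
      rw [h1]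
      exact ⟨w, hw, rfl⟩
  rcases zero_or_inj (a := s - 1) hirr hyE (fun w _ => by
    change s (y w) - y w = y (s w - w)
    rw [map_sub, hsy']) with h | h
  · left
    have hfix : ∀ w ∈ E, s w = w := fun w hw => sub_eq_zero.1 (h w hw)
    by_contra hcon
    push Not at hcon
    obtain ⟨w0, hw0, hne⟩ := hcon
    set E2 : Submodule F V := (R y).map (s - 1) with hE2
    have hE2R : E2 ≤ R s := by
      rintro _ ⟨w, -, rfl⟩
      exact ⟨w, rfl⟩
    have hE2W : E2 ≤ R y := by
      rintro _ ⟨w, hw, rfl⟩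
      exact Submodule.sub_mem _ (hsW w hw) hw
    have hE2y : ∀ w ∈ E2, y w ∈ E2 := by
      rintro _ ⟨w, hw, rfl⟩
      refine ⟨y w, hyW w hw, ?_⟩
      change s (y w) - y w = y (s w - w)
      rw [map_sub, hsy']
    have hinf : E ⊓ E2 = ⊥ := by
      rw [eq_bot_iff]
      rintro v ⟨hv, hv'⟩
      exact eq_zero_of_mem hs hpF (hfix v hv) (hE2R hv')
    have hE20 : finrank F E2 ≠ 0 := by
      intro h0
      rw [Submodule.finrank_eq_zero] at h0
      apply hne
      have h1 : s w0 - w0 ∈ E2 := ⟨w0, hw0, rfl⟩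
      rw [h0, Submodule.mem_bot, sub_eq_zero] at h1
      exact h1
    obtain ⟨c, hc⟩ := dvd_finrank_le hd hlF hy hE2W hE2y
    have hc0 : 0 < c := Nat.pos_of_ne_zero (by rintro rfl; omega)
    have hsup : E ⊔ E2 = R y := by
      apply Submodule.eq_of_le_of_finrank_le (sup_le hEW hE2W)
      have h1 := Submodule.finrank_sup_add_finrank_inf_eq E E2
      rw [hinf, finrank_bot, hEd] at h1
      nlinarith
    apply hE0
    rw [eq_bot_iff]
    intro v hv
    refine nondeg_R hyb hb hy hlF (hEW hv) fun u hu => ?_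
    rw [← hsup] at hu
    obtain ⟨u1, hu1, u2, ⟨u3, hu3, rfl⟩, rfl⟩ := Submodule.mem_sup.1 hu
    rw [map_add, LinearMap.add_apply, hti v hv u1 hu1, zero_add]
    change b (s u3 - u3) v = 0
    rw [map_sub, LinearMap.sub_apply, sub_eq_zero]
    nth_rewrite 1 [← hfix v hv]
    rw [hsb]
  · right
    constructor
    · obtain ⟨w, hw, hw0⟩ := Submodule.exists_mem_ne_zero_of_ne_bot hE0
      by_contra hnd
      apply hw0
      apply h w hw
      change s w - w = 0
      rw [sub_eq_zero]
      have hn : Nontrivial E := Submodule.nontrivial_iff_ne_bot.2 hE0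
      have hnt : Nontrivial (Module.End F E) := Module.End.instNontrivial
      have h1 := pow_card_sub_one (g := y.restrict hyE) (hirr.restrict hyE) (s := s.restrict hsE)
        (by ext ⟨v, hv⟩; exact hsy' v)
        (by
          intro h0
          apply hw0
          apply hsinj
          rw [map_zero]
          exact congrArg Subtype.val (LinearMap.congr_fun h0 ⟨w, hw⟩))
      have h2 : Nat.card E = Nat.card F ^ d := by rw [Module.natCard_eq_pow_finrank (K := F), hEd]
      have h3 : ∀ (n : ℕ) (v : E), ((((s.restrict hsE) ^ n) v : E) : V) = (s ^ n) v := by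
        intro n
        induction n with
        | zero => intro v; rfl
        | succ n ih => intro v; rw [pow_succ, pow_succ, Module.End.mul_apply, Module.End.mul_apply, ih]; rfl
      refine fix_of_coprime (m := Nat.card F ^ d - 1) (n := p) ?_ (by rw [hs]; rfl)
        ((Nat.Prime.coprime_iff_not_dvd hp.out).2 hnd).symm
      rw [← h2]
      have h4 := congrArg Subtype.val (LinearMap.congr_fun h1 ⟨w, hw⟩)
      rw [h3] at h4
      exact h4
    · rw [← hEd]
      apply Submodule.finrank_mono
      have h1 : ∀ w ∈ E, (s - 1) w ∈ E := fun w hw => Submodule.sub_mem _ (hsE w hw) hw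
      have h2 : Function.Injective ((s - 1).restrict h1) := by
        rw [← LinearMap.ker_eq_bot, LinearMap.ker_eq_bot']
        rintro ⟨w, hw⟩ h0
        exact Subtype.ext (h w hw (congrArg Subtype.val h0))
      have h3 : Function.Surjective ((s - 1).restrict h1) := Finite.surjective_of_injective h2
      intro w hw
      obtain ⟨⟨u, hu⟩, hu'⟩ := h3 ⟨w, hw⟩
      exact ⟨u, congrArg Subtype.val hu'⟩

end Cfsg.Agent.H200.LinFix
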