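import Cfsg.Agent.H628.ZOutOrth
import Cfsg.Agent.H568.LinP
import Cfsg.Agent.H568.RowTools
import Cfsg.Agent.SigZeroU5.Lift
import Cfsg.Agent.H200.LinFixE

/-!
# Rows of S4329 for orthogonal groups: elements of prime order of `E Q / Z` (helper200)
-/

set_option autoImplicit false
set_option linter.unusedSectionVars false

namespace Cfsg.Agent.H200.RowOrth

open QuadraticMap Module Cfsg.Agent.LieClassical.OrthCore Cfsg.Agent.LieClassical.OrthTrans
open Cfsg.Agent.ClassicalGeometry.OrthSemi Cfsg.Agent.ClassicalGeometry.OrthAut1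
open Cfsg.Agent.H200.LinFix Cfsg.Agent.H568

variable {F V : Type*} [Field F] [AddCommGroup V] [Module F V] {Q : QuadraticForm F V}

/-- The representation of `E Q` on `V`. -/
noncomputable def en (Q : QuadraticForm F V) : ↥(E Q) →* Module.End F V :=
  (LinearEquiv.automorphismGroup.toLinearMapMonoidHom (R := F) (M := V)).comp (E Q).subtype

theorem en_apply (h : ↥(E Q)) (v : V) : en Q h v = (h : V ≃ₗ[F] V) v := rfl

theorem en_injective : Function.Injective (en Q) := by
  intro g h hgh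
  apply Subtype.ext
  ext v
  exact LinearMap.congr_fun hgh v

theorem isom_en (h : ↥(E Q)) : Isom (polarBilin Q) (en Q h) := fun u v => by
  rw [polarBilin_apply_apply, polarBilin_apply_apply, en_apply, en_apply, polar_map (E_le_O h.2)]

theorem polar_nondeg (hG : Good Q) (v : V) (h : ∀ u, polarBilin Q u v = 0) : v = 0 := by
  apply hG.nondeg
  intro u
  rw [polar_comm]
  exact h u

theorem nondeg (hG : Good Q) : (polarBilin Q).Nondegenerate :=
  ⟨fun v hv => hG.nondeg v hv, fun v hv => polar_nondeg hG v hv⟩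

theorem isRefl (Q : QuadraticForm F V) : LinearMap.BilinForm.IsRefl (polarBilin Q) := fun u v h => by
  rw [polarBilin_apply_apply, polar_comm]
  exact h

theorem finite_F (hG : Good Q) [Finite V] : Finite F := by
  obtain ⟨x, hx, -⟩ := hG.sing
  exact Finite.of_injective (fun a : F => a • x) (smul_left_injective F hx)

theorem center_sq (hG : Good Q) {z : ↥(E Q)} (hz : z ∈ Subgroup.center ↥(E Q)) : z * z = 1 := by
  obtain ⟨c, hc⟩ := center_scalar hG hz
  obtain ⟨x, y, h⟩ := hG.exists_hyp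
  have h1 : Q (x + y) = 1 := by rw [Q_add, h.left, h.right, h.pair, add_zero, zero_add]
  have h2 : Q ((z : V ≃ₗ[F] V) (x + y)) = Q (x + y) := E_le_O z.2 _
  rw [hc, QuadraticMap.map_smul, h1, smul_eq_mul, mul_one] at h2
  apply Subtype.ext
  ext v
  change (z : V ≃ₗ[F] V) ((z : V ≃ₗ[F] V) v) = v
  rw [hc, hc, smul_smul, h2, one_smul]

theorem center_pow_odd (hG : Good Q) {z : ↥(E Q)} (hz : z ∈ Subgroup.center ↥(E Q)) {l : ℕ} (hl : Odd l)
    (h : z ^ l = 1) : z = 1 := by
  obtain ⟨k, rfl⟩ := hl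
  rw [pow_succ, pow_mul, pow_two, center_sq hG hz, one_pow, one_mul] at h
  exact h

theorem lift_pow (hG : Good Q) (x : P Q) {l : ℕ} (hl : Odd l) (hx : x ^ l = 1) :
    ∃ y : ↥(E Q), y ^ l = 1 ∧ (QuotientGroup.mk y : P Q) = x := by
  obtain ⟨h, rfl⟩ := QuotientGroup.mk_surjective x
  have h1 : h ^ l ∈ Subgroup.center ↥(E Q) := by
    rw [← QuotientGroup.eq_one_iff]
    exact hx
  refine ⟨h ^ (l + 1), ?_, ?_⟩
  · obtain ⟨k, rfl⟩ := hl
    rw [← pow_mul, mul_comm, pow_mul]
    have h2 : 2 * k + 1 + 1 = 2 * (k + 1) := by ring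
    rw [h2, pow_mul, pow_two, center_sq hG h1, one_pow]
  · rw [pow_succ, QuotientGroup.mk_mul, (QuotientGroup.eq_one_iff _).2 h1, one_mul]

theorem comm_of_mk (hG : Good Q) {y h : ↥(E Q)} {l : ℕ} (hl : Odd l) (hy : y ^ l = 1)
    (hc : (QuotientGroup.mk y : P Q) * QuotientGroup.mk h = QuotientGroup.mk h * QuotientGroup.mk y) :
    y * h = h * y := by
  have h1 : y⁻¹ * (h * y * h⁻¹) ∈ Subgroup.center ↥(E Q) := by
    rw [← QuotientGroup.eq_one_iff]
    have h2 : (QuotientGroup.mk (y⁻¹ * (h * y * h⁻¹)) : P Q) =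
      (QuotientGroup.mk y)⁻¹ * ((QuotientGroup.mk h * QuotientGroup.mk y) * (QuotientGroup.mk h)⁻¹) := rfl
    rw [h2, ← hc]
    group
  set z := y⁻¹ * (h * y * h⁻¹) with hz
  have h3 : h * y * h⁻¹ = y * z := by rw [hz]; group
  have h4 : z ^ l = 1 := by
    have h5 : (y * z) ^ l = 1 := by rw [← h3, conj_pow, hy, mul_one, mul_inv_cancel]
    have h6 : Commute y z := Subgroup.mem_center_iff.1 h1 y
    rwa [h6.mul_pow, hy, one_mul] at h5
  have h5 := center_pow_odd hG h1 hl h4
  rw [h5, mul_one, mul_inv_eq_iff_eq_mul] at h3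
  exact h3.symm

theorem conj_fix (hG : Good Q) {y : ↥(E Q)} {l : ℕ} (hl : Odd l) (hy : y ^ l = 1) {M : Gam Q}
    (hc : Psi Q M (QuotientGroup.mk y) = QuotientGroup.mk y) : conjE Q M y = y := by
  rw [Psi_mk] at hc
  have h1 : y⁻¹ * conjE Q M y ∈ Subgroup.center ↥(E Q) := by
    rw [← QuotientGroup.eq]
    exact hc.symm
  set z := y⁻¹ * conjE Q M y with hz
  have h3 : conjE Q M y = y * z := by rw [hz]; group
  have h4 : z ^ l = 1 := by
    have h5 : (y * z) ^ l = 1 := by rw [← h3, ← map_pow, hy, map_one]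
    have h6 : Commute y z := Subgroup.mem_center_iff.1 h1 y
    rwa [h6.mul_pow, hy, one_mul] at h5
  rw [h3, center_pow_odd hG h1 hl h4, mul_one]

theorem mk_ne_one (hG : Good Q) {y : ↥(E Q)} {l : ℕ} (hl : Odd l) (hy : y ^ l = 1) (h1 : y ≠ 1) :
    (QuotientGroup.mk y : P Q) ≠ 1 := by
  intro h
  rw [QuotientGroup.eq_one_iff] at h
  exact h1 (center_pow_odd hG h hl hy)

theorem orderOf_mk (hG : Good Q) {y : ↥(E Q)} {l : ℕ} [hlp : Fact l.Prime] (hl : Odd l) (hy : y ^ l = 1) (h1 : y ≠ 1) :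
    orderOf (QuotientGroup.mk y : P Q) = l :=
  orderOf_eq_prime (by rw [← QuotientGroup.mk_pow, hy]; rfl) (mk_ne_one hG hl hy h1)

section fin

variable [Finite V]

theorem finite_E : Finite ↥(E Q) :=
  Finite.of_injective (fun h : ↥(E Q) => ((h : V ≃ₗ[F] V) : V → V)) (fun _ _ hgh =>
    Subtype.ext (LinearEquiv.ext fun v => congrFun hgh v))

theorem not_dvd_center (hG : Good Q) {p : ℕ} [hp : Fact p.Prime] (hp2 : p ≠ 2) :
    ¬ p ∣ Nat.card (Subgroup.center ↥(E Q)) := by
  have hfin : Finite ↥(E Q) := finite_E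
  intro h
  obtain ⟨z, hz⟩ := exists_prime_orderOf_dvd_card' p h
  have h1 : (z : ↥(E Q)) = 1 := by
    refine center_pow_odd hG z.2 (hp.out.odd_of_ne_two hp2) ?_
    have h2 := congrArg Subtype.val (pow_orderOf_eq_one z)
    rw [hz] at h2
    exact h2
  rw [show z = 1 from Subtype.ext h1, orderOf_one] at hz
  exact hp.out.one_lt.ne hz

/-- **`PCent`** from a small dimension. -/
theorem pcent (hG : Good Q) {p l : ℕ} [hp : Fact p.Prime] (hp2 : p ≠ 2) [hl : Fact l.Prime] (hl2 : l ≠ 2)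
    (hlp : l ≠ p) (hpF : (p : F) ≠ 0) {y : ↥(E Q)} (hy : y ^ l = 1) (hdim : finrank F V < 2 * l) :
    PCent p (QuotientGroup.mk y : P Q) := by
  classical
  have hfin : Finite ↥(E Q) := finite_E
  have hfd : FiniteDimensional F V := inferInstance
  intro R₀ hR₀ hyR x hx
  obtain ⟨P₁, hP₁, hmap, hnorm⟩ := Cfsg.Agent.SigZeroU5.exists_lift (Subgroup.center ↥(E Q)) le_rfl
    (not_dvd_center hG hp2) hR₀
  have hyn : y ∈ Subgroup.normalizer (P₁ : Set ↥(E Q)) := by
    rw [Subgroup.mem_normalizer_iff]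
    exact hnorm y hyR
  rw [← hmap] at hx
  obtain ⟨h, hh, rfl⟩ := hx
  change (QuotientGroup.mk y : P Q) * QuotientGroup.mk h = QuotientGroup.mk h * QuotientGroup.mk y
  rw [← QuotientGroup.mk_mul, ← QuotientGroup.mk_mul]
  congr 1
  -- the matrix representation
  let B := Module.finBasis F V
  let ρ : ↥(E Q) →* Matrix.GeneralLinearGroup (Fin (finrank F V)) F :=
    (Units.map (LinearMap.toMatrixAlgEquiv B : Module.End F V →* Matrix (Fin (finrank F V)) (Fin (finrank F V)) F)).comp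
      (MonoidHom.toHomUnits (en Q))
  have hρ : ∀ g : ↥(E Q), ((ρ g : Matrix.GeneralLinearGroup (Fin (finrank F V)) F) :
      Matrix (Fin (finrank F V)) (Fin (finrank F V)) F) = LinearMap.toMatrixAlgEquiv B (en Q g) := fun g => rfl
  refine linP_form ρ hp.out hp2 hl.out hlp hpF P₁ hP₁ (fun g _ hg => ?_) y hyn (fun g _ => by rw [hy, one_mul, mul_one])
    hl2 (by rw [Fintype.card_fin]; exact hdim) (LinearMap.BilinForm.toMatrix B (polarBilin Q)) ?_ (fun g _ => ?_) h hh
  · apply en_injective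
    rw [map_one]
    apply (LinearMap.toMatrixAlgEquiv B).injective
    rw [← hρ, hg, map_one]
    rfl
  · exact (LinearMap.BilinForm.nondegenerate_iff_det_ne_zero B).1 (nondeg hG)
  · have h1 : LinearMap.BilinForm.comp (polarBilin Q) (en Q g) (en Q g) = polarBilin Q := by
      refine LinearMap.ext fun u => LinearMap.ext fun v => ?_
      exact isom_en g u v
    rw [hρ]
    conv_rhs => rw [← h1]
    rw [LinearMap.BilinForm.toMatrix_comp (b := B) (c := B)]
    rfl

/-- **`NoNorm` in the characteristic**: no nonzero invariant totally isotropic subspace. -/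
theorem noNorm_of_ti (hG : Good Q) {p : ℕ} [hp : Fact p.Prime] (hp2 : p ≠ 2) (hpF : (p : F) = 0) {y : ↥(E Q)}
    (hti : ∀ U : Submodule F V, (∀ u ∈ U, en Q y u ∈ U) → (∀ u ∈ U, ∀ v ∈ U, polarBilin Q u v = 0) → U = ⊥) :
    NoNorm p (QuotientGroup.mk y : P Q) := by
  classical
  have hfin : Finite ↥(E Q) := finite_E
  have hfd : FiniteDimensional F V := inferInstance
  intro R₀ hR₀ hyR
  obtain ⟨P₁, hP₁, hmap, hnorm⟩ := Cfsg.Agent.SigZeroU5.exists_lift (Subgroup.center ↥(E Q)) le_rfl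
    (not_dvd_center hG hp2) hR₀
  have hyn := hnorm y hyR
  -- the fixed space
  let U₀ : Submodule F V :=
    { carrier := {v | ∀ g ∈ P₁, en Q g v = v}
      add_mem' := fun {a b} ha hb g hg => by rw [map_add, ha g hg, hb g hg]
      zero_mem' := fun g _ => map_zero _
      smul_mem' := fun c v hv g hg => by rw [map_smul, hv g hg] }
  let U₁ : Submodule F V :=
    { carrier := {v | ∀ u ∈ U₀, polarBilin Q u v = 0}
      add_mem' := fun {a b} ha hb u hu => by rw [map_add, ha u hu, hb u hu, add_zero]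
      zero_mem' := fun u _ => map_zero _
      smul_mem' := fun c v hv u hu => by rw [map_smul, hv u hu, smul_zero] }
  have hinv : ∀ (g : ↥(E Q)) (v : V), en Q g (en Q g⁻¹ v) = v := fun g v => by
    rw [← Module.End.mul_apply, ← map_mul, mul_inv_cancel, map_one, Module.End.one_apply]
  have hy0 : ∀ u ∈ U₀, en Q y u ∈ U₀ := by
    intro u hu g hg
    have h1 : y⁻¹ * g * y ∈ P₁ := by
      rw [hnorm y hyR]
      have h2 : y * (y⁻¹ * g * y) * y⁻¹ = g := by group
      rwa [h2]
    have h3 := hu _ h1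
    have h4 : g * y = y * (y⁻¹ * g * y) := by group
    rw [← Module.End.mul_apply, ← map_mul, h4, map_mul, Module.End.mul_apply, h3]
  have hy0' : ∀ u ∈ U₀, en Q y⁻¹ u ∈ U₀ := by
    intro u hu g hg
    have h1 : y * g * y⁻¹ ∈ P₁ := (hnorm y hyR g).1 hg
    have h3 := hu _ h1
    have h4 : g * y⁻¹ = y⁻¹ * (y * g * y⁻¹) := by group
    rw [← Module.End.mul_apply, ← map_mul, h4, map_mul, Module.End.mul_apply, h3]
  have hy1 : ∀ u ∈ U₁, en Q y u ∈ U₁ := by
    intro v hv u hu
    have h1 := isom_en y (en Q y⁻¹ u) v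
    rw [hinv] at h1
    rw [h1]
    exact hv _ (hy0' u hu)
  have hbot : U₀ ⊓ U₁ = ⊥ := hti _ (fun u hu => ⟨hy0 u hu.1, hy1 u hu.2⟩) (fun u hu v hv => hv.2 u hu.1)
  -- `P₁` acts on `U₁` without fixed points
  have hP1 : ∀ g ∈ P₁, ∀ v ∈ U₁, en Q g v ∈ U₁ := by
    intro g hg v hv u hu
    have h1 := isom_en g u v
    rw [hu g hg] at h1
    rw [h1]
    exact hv u hu
  let act : MulAction ↥P₁ ↥U₁ :=
    { smul := fun g v => ⟨en Q g v, hP1 g g.2 v v.2⟩
      one_smul := fun v => Subtype.ext (by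
        change en Q ((1 : ↥P₁) : ↥(E Q)) v = v
        rw [OneMemClass.coe_one, map_one]; rfl)
      mul_smul := fun g h v => Subtype.ext (by
        change en Q ((g * h : ↥P₁) : ↥(E Q)) v = en Q g (en Q h v)
        rw [Subgroup.coe_mul, map_mul]; rfl) }
  have hsm : ∀ (g : ↥P₁) (v : ↥U₁), ((g • v : ↥U₁) : V) = en Q g v := fun _ _ => rfl
  have h1 := hP₁.card_modEq_card_fixedPoints (↥U₁)
  have h2 : Nat.card (MulAction.fixedPoints ↥P₁ ↥U₁) = 1 := by
    rw [Nat.card_eq_one_iff_unique]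
    refine ⟨⟨?_⟩, ⟨⟨0, fun g => Subtype.ext (by rw [hsm]; exact map_zero _)⟩⟩⟩
    have h3 : ∀ v : MulAction.fixedPoints ↥P₁ ↥U₁, ((v : ↥U₁) : V) = 0 := by
      rintro ⟨v, hv⟩
      have h4 : (v : V) ∈ U₀ ⊓ U₁ := ⟨fun g hg => by
        have h5 := congrArg Subtype.val (hv ⟨g, hg⟩)
        rw [hsm] at h5
        exact h5, v.2⟩
      rw [hbot] at h4
      exact h4
    intro v w
    exact Subtype.ext (Subtype.ext ((h3 v).trans (h3 w).symm))
  rw [h2, Module.natCard_eq_pow_finrank (K := F)] at h1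
  have h3 : finrank F U₁ = 0 := by
    by_contra hne
    have hchar : CharP F p := by
      exact (CharP.charP_iff_prime_eq_zero hp.out).2 hpF
    have hF : Finite F := finite_F hG
    have h4 : p ∣ Nat.card F := by
      have h5 : addOrderOf (1 : F) = p := by
        apply addOrderOf_eq_prime
        · rw [nsmul_one]; exact hpF
        · exact one_ne_zero
      rw [← h5]
      exact addOrderOf_dvd_natCard 1
    have h5 : p ∣ Nat.card F ^ finrank F U₁ := dvd_pow h4 hne
    have h6 := (Nat.modEq_zero_iff_dvd.2 h5).symm.trans h1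
    have h7 := Nat.modEq_zero_iff_dvd.1 h6.symm
    exact hp.out.one_lt.ne' (Nat.dvd_one.1 h7)
  have h4 : U₁ = ⊥ := Submodule.finrank_eq_zero.1 h3
  -- hence `U₀ = ⊤`
  have h5 : U₀ = ⊤ := by
    have h6 : LinearMap.BilinForm.orthogonal (polarBilin Q) U₀ = U₁ := by
      ext v
      rfl
    have h7 := LinearMap.BilinForm.finrank_orthogonal (nondeg hG) U₀
    rw [h6, h3] at h7
    have h8 : finrank F U₀ ≤ finrank F V := Submodule.finrank_le _
    exact Submodule.eq_top_of_finrank_eq (by omega)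
  rw [← hmap, Subgroup.map_eq_bot_iff]
  intro g hg
  rw [MonoidHom.mem_ker, QuotientGroup.mk'_apply, QuotientGroup.eq_one_iff]
  have h6 : g = 1 := by
    apply en_injective
    refine LinearMap.ext fun v => ?_
    have h7 : v ∈ U₀ := h5 ▸ Submodule.mem_top
    rw [h7 g hg, map_one]
    rfl
  rw [h6]
  exact Subgroup.one_mem _

end fin

end Cfsg.Agent.H200.RowOrth
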