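import Cfsg.Agent.H200.RowOrthB

/-!
# Rows of S4329 for orthogonal groups: the first torus (helper200)
-/

set_option autoImplicit false
set_option linter.unusedSectionVars false

namespace Cfsg.Agent.H200.RowOrth

open QuadraticMap Module Cfsg.Agent.LieClassical.OrthCore Cfsg.Agent.LieClassical.OrthTrans
open Cfsg.Agent.ClassicalGeometry.OrthSemi Cfsg.Agent.ClassicalGeometry.OrthAut1
open Cfsg.Agent.H200.LinFix Cfsg.Agent.H568

/-! ### arithmetic -/

theorem arith_succ {p q n : ℕ} [hp : Fact p.Prime] (hp2 : p ≠ 2) (hn : 1 ≤ n) (h1 : p ∣ q ^ n + 1)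
    (h2 : p ∣ q ^ (n - 1) + 1) : False := by
  obtain ⟨k, rfl⟩ := Nat.exists_eq_add_of_le' hn
  rw [Nat.add_sub_cancel] at h2
  rw [← ZMod.natCast_eq_zero_iff] at h1 h2
  push_cast at h1 h2
  have h3 : (q : ZMod p) = 1 := by
    have h4 : (q : ZMod p) ^ k = -1 := eq_neg_of_add_eq_zero_left h2
    rw [pow_succ, h4] at h1
    linear_combination -h1
  rw [h3, one_pow] at h2
  have h4 : ((2 : ℕ) : ZMod p) = 0 := by push_cast; linear_combination h2
  rw [ZMod.natCast_eq_zero_iff] at h4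
  exact hp2 ((Nat.prime_dvd_prime_iff_eq hp.out Nat.prime_two).1 h4)

/-- Primitive primes for the prime field and for `F`. -/
theorem exists_super {r f e : ℕ} (hr : r.Prime) (hf : 1 ≤ f) (he : 3 ≤ e) (h6 : ¬ (r = 2 ∧ f * e = 6)) :
    ∃ l : ℕ, l.Prime ∧ l ≠ 2 ∧ (∀ m, l ∣ r ^ m - 1 → f * e ∣ m) ∧ l ∣ (r ^ f) ^ e - 1 ∧ f * e + 1 ≤ l ∧
      Ordd l (r ^ f) e ∧ ¬ l ∣ r := by
  have h3 : 3 ≤ f * e := by nlinarith
  obtain ⟨l, hl, hm, hd, hlr⟩ := Cfsg.Agent.Lib.Zsigmondy.exists_primitive (a := r) (n := f * e) hr.two_le (by omega)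
    (by omega) h6
  have hle : f * e + 1 ≤ l := by
    have h1 := Nat.le_of_dvd (by have := hl.two_le; omega) hd
    have := hl.two_le
    omega
  refine ⟨l, hl, by omega, fun m h => (hm m).1 h, ?_, hle, ?_, hlr⟩
  · rw [← pow_mul]
    exact (hm _).2 dvd_rfl
  · intro m h
    rw [← pow_mul] at h
    exact Nat.dvd_of_mul_dvd_mul_left (by omega) ((hm _).1 h)

theorem dvd_add_one {l q n : ℕ} [hl : Fact l.Prime] (hn : 1 ≤ n) (hd : Ordd l q (2 * n)) (h : l ∣ q ^ (2 * n) - 1) :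
    l ∣ q ^ n + 1 := by
  have h1 : q ^ (2 * n) - 1 = (q ^ n + 1) * (q ^ n - 1) := by
    rw [mul_comm 2 n, pow_mul]
    exact Nat.sq_sub_sq (q ^ n) 1
  rw [h1, hl.out.dvd_mul] at h
  rcases h with h | h
  · exact h
  · have h2 := Nat.le_of_dvd (by omega) (hd n h)
    omega

variable {F V : Type*} [Field F] [AddCommGroup V] [Module F V] {Q : QuadraticForm F V}

theorem natCast_ne {F : Type*} [Field F] {r : ℕ} [CharP F r] (hr : r.Prime) {l : ℕ} (hl : l.Prime) (h : ¬ l ∣ r) :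
    (l : F) ≠ 0 := by
  intro h0
  rw [CharP.cast_eq_zero_iff F r] at h0
  exact h (((Nat.prime_dvd_prime_iff_eq hr hl).1 h0) ▸ dvd_rfl)

section fin

variable [Finite V]

theorem ti_of_irr (hG : Good Q) {l : ℕ} [hl : Fact l.Prime] (hlF : (l : F) ≠ 0) {y : ↥(E Q)} (hy : y ^ l = 1)
    (hirr : Irr (en Q y) (R (en Q y))) (hK : ∀ v ∈ K (en Q y), polarBilin Q v v = 0 → v = 0)
    (U : Submodule F V) (hU : ∀ u ∈ U, en Q y u ∈ U) (hti : ∀ u ∈ U, ∀ v ∈ U, polarBilin Q u v = 0) : U = ⊥ := by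
  have hfd : FiniteDimensional F V := inferInstance
  have hy' : en Q y ^ l = 1 := by rw [← map_pow, hy, map_one]
  rw [eq_bot_iff]
  intro v hv
  obtain ⟨k, hk, r, hr, rfl⟩ := decomp_mem hy' hlF hU hv
  rw [hK k hk.1 (hti k hk.2 k hk.2), zero_add]
  rcases hirr (R (en Q y) ⊓ U) inf_le_left (fun u hu => ⟨R_inv rfl hu.1, hU u hu.2⟩) with h | h
  · rw [h] at hr
    exact hr
  · apply nondeg_R (isom_en y) (polar_nondeg hG) hy' hlF hr.1
    intro u hu
    rw [← h] at hu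
    exact hti u hu.2 r hr.2

/-- dimension of `R` for an element of order `l` -/
theorem finrank_R_eq {l e : ℕ} [hl : Fact l.Prime] (hd : Ordd l (Nat.card F) e) (hlF : (l : F) ≠ 0)
    (hV : finrank F V < 2 * e) {y : ↥(E Q)} (hy : y ^ l = 1) (h1 : y ≠ 1) : finrank F (R (en Q y)) = e := by
  have hfd : FiniteDimensional F V := inferInstance
  have hy' : en Q y ^ l = 1 := by rw [← map_pow, hy, map_one]
  obtain ⟨c, hc⟩ := dvd_finrank_R hd hlF hy'
  have h2 : finrank F (R (en Q y)) ≤ finrank F V := Submodule.finrank_le _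
  have h3 : finrank F (R (en Q y)) ≠ 0 := by
    intro h0
    rw [Submodule.finrank_eq_zero, R_eq_bot] at h0
    exact h1 (en_injective (h0.trans (map_one _).symm))
  have h4 : c < 2 := by
    by_contra h
    push Not at h
    nlinarith
  interval_cases c <;> omega

theorem irr_R {l e : ℕ} [hl : Fact l.Prime] (hd : Ordd l (Nat.card F) e) (hlF : (l : F) ≠ 0)
    (hV : finrank F V < 2 * e) {y : ↥(E Q)} (hy : y ^ l = 1) : Irr (en Q y) (R (en Q y)) := by
  have hfd : FiniteDimensional F V := inferInstance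
  have hy' : en Q y ^ l = 1 := by rw [← map_pow, hy, map_one]
  exact irr_of_lt hd hlF hy' le_rfl (fun w hw => R_inv rfl hw) ((Submodule.finrank_le _).trans_lt hV)

theorem not_dvd_orderOf (hG : Good Q) {p l : ℕ} [hp : Fact p.Prime] [hl : Fact l.Prime] (hl2 : l ≠ 2) (hlp : l ≠ p)
    {y : ↥(E Q)} (hy : y ^ l = 1) (h1 : y ≠ 1) : ¬ p ∣ orderOf (QuotientGroup.mk y : P Q) := by
  rw [orderOf_mk hG (hl.out.odd_of_ne_two hl2) hy h1]
  intro h
  exact hlp ((Nat.prime_dvd_prime_iff_eq hp.out hl.out).1 h).symm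

/-- **The third alternative for field automorphisms.** -/
theorem third_field (hG : Good Q) {p : ℕ} [hp : Fact p.Prime] (hp2 : p ≠ 2) {r f e l : ℕ} [hl : Fact l.Prime]
    (hl2 : l ≠ 2) (hlp : l ≠ p) (hr : r.Prime) (hF : Nat.card F = r ^ f) (hsup : ∀ m, l ∣ r ^ m - 1 → f * e ∣ m)
    (hd : Ordd l (Nat.card F) e) (hlF : (l : F) ≠ 0) (hV : finrank F V < 2 * e) (hVl : finrank F V < 2 * l)
    (hno : (p : F) = 0 → ∀ y : ↥(E Q), y ^ l = 1 → y ≠ 1 → NoNorm p (QuotientGroup.mk y : P Q))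
    {y : ↥(E Q)} (hy : y ^ l = 1) (h1 : y ≠ 1) {M : Gam Q} {σ : F ≃+* F} {c : F} (hM : IsSS Q σ c M.1) (hσ : σ ≠ 1) :
    ∃ x : P Q, ¬ p ∣ orderOf x ∧ PCent p x ∧ ∀ g : MulAut (P Q), (g * Psi Q M * g⁻¹) x ≠ x := by
  refine ⟨QuotientGroup.mk y, not_dvd_orderOf hG hl2 hlp hy h1, ?_, ?_⟩
  · by_cases hpF : (p : F) = 0
    · exact (hno hpF y hy h1).pcent
    · exact pcent hG hp2 hl2 hlp hpF hy hVl
  · apply not_fixed_of_order
    intro x' hx'
    rw [orderOf_mk hG (hl.out.odd_of_ne_two hl2) hy h1] at hx'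
    refine not_fixed_field hG hl2 hM hσ (fun z hz => ?_) hx'
    by_cases hz1 : z = 1
    · subst hz1
      intro U hU _
      left
      rw [eq_bot_iff]
      intro u hu
      have h2 := hU u hu
      rw [map_one, R_eq_bot.2 rfl] at h2
      exact h2
    · have hz' : en Q z ^ l = 1 := by rw [← map_pow, hz, map_one]
      exact irrZ_of hr hF hsup hlF hz' (finrank_R_eq hd hlF hV hz hz1).le

/-- **The third alternative for inner automorphisms.** -/
theorem third_inner (hG : Good Q) {p : ℕ} [hp : Fact p.Prime] (hp2 : p ≠ 2) {l : ℕ} [hl : Fact l.Prime]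
    (hl2 : l ≠ 2) (hlp : l ≠ p) (hpF : (p : F) ≠ 0) (hVl : finrank F V < 2 * l) {y : ↥(E Q)} (hy : y ^ l = 1) (h1 : y ≠ 1)
    {t : ↥(E Q)} (h : ∀ y : ↥(E Q), y ^ l = 1 → y ≠ 1 → t * y ≠ y * t) :
    ∃ x : P Q, ¬ p ∣ orderOf x ∧ PCent p x ∧
      ∀ g : MulAut (P Q), (g * MulAut.conj (QuotientGroup.mk t : P Q) * g⁻¹) x ≠ x := by
  refine ⟨QuotientGroup.mk y, not_dvd_orderOf hG hl2 hlp hy h1, pcent hG hp2 hl2 hlp hpF hy hVl, ?_⟩
  apply not_fixed_of_order
  intro x' hx'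
  rw [orderOf_mk hG (hl.out.odd_of_ne_two hl2) hy h1] at hx'
  exact not_fixed_inner hG hl2 h hx'

/-- commuting elements of prime order -/
theorem comm_elt [Finite F] (hG : Good Q) {p l : ℕ} [hp : Fact p.Prime] [hl : Fact l.Prime] (hl2 : l ≠ 2)
    (hlF : (l : F) ≠ 0) {y t : ↥(E Q)} (hy : y ^ l = 1) (hirr : Irr (en Q y) (R (en Q y))) (ht : t ^ p = 1)
    (hc : t * y = y * t) :
    (∀ w ∈ R (en Q y), en Q t w = w) ∨ (R (en Q y) ≤ R (en Q t) ∧
      ∃ m, finrank F (R (en Q y)) = 2 * m ∧ p ∣ Nat.card F ^ m + 1) :=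
  comm_irr hl2 hlF (by rw [← map_pow, hy, map_one]) (isom_en y) (polar_nondeg hG) hirr
    (by rw [← map_pow, ht, map_one]) (isom_en t) (by rw [← map_mul, hc, map_mul])

/-- `t = 1` on `R y`: `R t ≤ K y`. -/
theorem R_le_K {l : ℕ} (hlF : (l : F) ≠ 0) {y t : ↥(E Q)} (hy : y ^ l = 1) (hc : t * y = y * t)
    (h : ∀ w ∈ R (en Q y), en Q t w = w) : R (en Q t) ≤ K (en Q y) := by
  have hfd : FiniteDimensional F V := inferInstance
  have hy' : en Q y ^ l = 1 := by rw [← map_pow, hy, map_one]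
  rintro _ ⟨v, rfl⟩
  change en Q t v - v ∈ K (en Q y)
  obtain ⟨k, hk, r, hr, rfl⟩ := decomp hy' hlF v
  rw [map_add, h r hr, add_sub_add_right_eq_sub]
  exact Submodule.sub_mem _ (K_inv (by rw [← map_mul, hc, map_mul]) hk) hk

end fin

end Cfsg.Agent.H200.RowOrth
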