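import Cfsg.Agent.H200.RowOrthC
import Cfsg.Agent.H199.PslField

/-!
# Rows of S4329 for orthogonal groups: minus type and odd dimension, abstract form (helper200)
-/

set_option autoImplicit false
set_option linter.unusedSectionVars false

namespace Cfsg.Agent.H200.RowOrth

open QuadraticMap Module Cfsg.Agent.LieClassical.OrthCore Cfsg.Agent.LieClassical.OrthTrans
open Cfsg.Agent.ClassicalGeometry.OrthSemi Cfsg.Agent.ClassicalGeometry.OrthAut1
open Cfsg.Agent.H200.LinFix Cfsg.Agent.H568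

variable {F V : Type*} [Field F] [AddCommGroup V] [Module F V] {Q : QuadraticForm F V}

theorem natCast_ne_of_not_dvd {r l : ℕ} [hl : Fact l.Prime] [CharP F r] (hr : r.Prime) (h : ¬ l ∣ r) : (l : F) ≠ 0 := by
  intro h0
  rw [CharP.cast_eq_zero_iff F r] at h0
  apply h
  rw [(Nat.prime_dvd_prime_iff_eq hr hl.out).1 h0]

/-- inner or field -/
theorem inner_or_field [Finite V] (hG : Good Q) {p : ℕ} (hp : p.Prime) (hp2 : p ≠ 2) {M : Gam Q}
    (ha : orderOf (Psi Q M) = p) :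
    (∃ g : P Q, Psi Q M = MulAut.conj g) ∨ ∃ (σ : F ≃+* F) (c : F), IsSS Q σ c M.1 ∧ σ ≠ 1 := by
  obtain ⟨σ, c, hM⟩ := M.2
  by_cases hσ : σ = 1
  · left
    subst hσ
    exact H628.ZOutBasic.inner_of_pow (k := 2 ^ 2) ha (H628.ZOutBasic.coprime_two_pow hp hp2 2)
      (H628.ZOutOrth.inner_gam hG hM)
  · exact Or.inr ⟨σ, c, hM, hσ⟩

theorem isSS_one : IsSS Q (1 : F ≃+* F) 1 (1 : Equiv.Perm V) :=
  ⟨one_ne_zero, fun _ _ => rfl, fun _ _ => rfl, fun _ => by rw [one_mul]; rfl⟩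

theorem isSS_pow {σ : F ≃+* F} {c : F} {M : Equiv.Perm V} (h : IsSS Q σ c M) (k : ℕ) :
    IsSS Q (σ ^ k) (∏ i ∈ Finset.range k, (σ ^ i) c) (M ^ k) := by
  induction k with
  | zero => exact isSS_one
  | succ k ih =>
    rw [pow_succ σ, pow_succ M, Finset.prod_range_succ]
    exact ih.mul h

theorem isSS_unique (hQ : ∃ v, Q v ≠ 0) {σ τ : F ≃+* F} {c d : F} {M : Equiv.Perm V} (h : IsSS Q σ c M)
    (h' : IsSS Q τ d M) : σ = τ ∧ c = d := by
  obtain ⟨v, hv⟩ := hQ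
  have hv0 : v ≠ 0 := by
    rintro rfl
    exact hv (QuadraticMap.map_zero Q)
  have hM0 : M v ≠ 0 := fun h0 => hv0 (M.injective (h0.trans h.map_zero.symm))
  have h1 : σ = τ := by
    ext a
    have h2 : (σ a - τ a) • M v = 0 := by rw [sub_smul, ← h.smul, ← h'.smul, sub_self]
    rcases smul_eq_zero.1 h2 with h3 | h3
    · exact sub_eq_zero.1 h3
    · exact absurd h3 hM0
  subst h1
  refine ⟨rfl, ?_⟩
  have h2 := h.form v
  rw [h'.form v] at h2
  exact (mul_right_cancel₀ (by simpa using hv) h2).symm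

theorem exists_ne (hG : Good Q) : ∃ v, Q v ≠ 0 := by
  obtain ⟨x, y, h⟩ := hG.exists_hyp
  refine ⟨x + y, ?_⟩
  rw [Q_add, h.left, h.right, h.pair, add_zero, zero_add]
  exact one_ne_zero

/-! ### the fixed vectors -/


/-- The order of a field automorphism. -/
theorem field_dvd [Finite V] [Finite F] (hG : Good Q) {p : ℕ} (hp : p.Prime) {M : Gam Q} {σ : F ≃+* F} {c : F}
    (hM : IsSS Q σ c M.1) (hσ : σ ≠ 1) (ha : orderOf (Psi Q M) = p) {r f : ℕ} (hr : r.Prime)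
    (hF : Nat.card F = r ^ f) : p ∣ f := by
  have := Fact.mk hp
  have := Fact.mk hr
  have hFt : Fintype F := Fintype.ofFinite F
  have h1 : M ^ p ∈ (Psi Q).ker := by
    rw [MonoidHom.mem_ker, map_pow, ← ha, pow_orderOf_eq_one]
  rw [ker_Psi hG] at h1
  obtain ⟨a, ha'⟩ := h1
  have h2 : IsSS Q (1 : F ≃+* F) ((a : F) * a) (M ^ p).1 := by
    rw [← ha']
    refine ⟨mul_ne_zero a.ne_zero a.ne_zero, fun u v => smul_add _ _ _, fun b v => smul_comm _ _ _, fun v => ?_⟩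
    rw [scal_apply, QuadraticMap.map_smul]
    rfl
  have h3 := isSS_pow hM p
  have h4 : σ ^ p = 1 := (isSS_unique (exists_ne hG) h3 h2).1
  have h5 : orderOf σ = p := orderOf_eq_prime h4 hσ
  exact (H199.PslField.prime_dvd (by rw [← Nat.card_eq_fintype_card]; exact hF) h5 hp.pos).1

theorem ordd_17 : Ordd 17 (2 ^ 1) 8 := by
  intro m hm
  have h1 := Nat.div_add_mod m 8
  have h2 : m % 8 < 8 := Nat.mod_lt _ (by norm_num)
  have h3 : (2 ^ 1) ^ m % 17 = 2 ^ (m % 8) % 17 := by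
    rw [pow_one]
    conv_lhs => rw [← h1, pow_add, pow_mul]
    rw [Nat.mul_mod, Nat.pow_mod]
    norm_num
  have h4 : 1 ≤ (2 ^ 1) ^ m := Nat.one_le_pow _ _ (by norm_num)
  have h5 : (2 ^ 1) ^ m % 17 = 1 := by omega
  rw [h3] at h5
  rw [Nat.dvd_iff_mod_eq_zero]
  interval_cases h : m % 8 <;> simp_all

/-- **Minus type, dimension `2 n`.** -/
theorem row_minus_abs [Finite V] [Finite F] (hG : Good Q) [IsSimpleGroup (P Q)] (hna : ¬ IsMulCommutative (P Q)) {p : ℕ}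
    [hp : Fact p.Prime] (hp2 : p ≠ 2) {n : ℕ} (hn : 4 ≤ n) (hV : finrank F V = 2 * n)
    (haut : ∀ a : MulAut (P Q), ∃ M : Gam Q, a = Psi Q M)
    (hel1 : ∀ l : ℕ, l.Prime → l ≠ 2 → l ∣ Nat.card F ^ n + 1 → l ∣ Nat.card (P Q))
    (hel2 : ∀ l : ℕ, l.Prime → l ≠ 2 → l ∣ Nat.card F ^ (2 * (n - 1)) - 1 → l ∣ Nat.card (P Q)) : Row p (P Q) := by
  classical
  have hfinE : Finite ↥(E Q) := finite_E
  have hfd : FiniteDimensional F V := inferInstance
  obtain ⟨r, hchar⟩ := CharP.exists F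
  have hFt : Fintype F := Fintype.ofFinite F
  obtain ⟨⟨f, hf0⟩, hr, hF⟩ := FiniteField.card F r
  have hF' : Nat.card F = r ^ f := by rw [Nat.card_eq_fintype_card]; exact hF
  obtain ⟨l₁, hl₁, hl₁2, hsup, hdiv, hl₁le, hd₁, hl₁r⟩ := exists_super (e := 2 * n) hr hf0 (by omega)
    (by
      rintro ⟨-, h⟩
      have : 1 * 8 ≤ f * (2 * n) := Nat.mul_le_mul hf0 (by omega)
      omega)
  rw [← hF'] at hdiv hd₁
  have := Fact.mk hl₁
  have hl₁F : (l₁ : F) ≠ 0 := natCast_ne_of_not_dvd hr hl₁r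
  have hfe : 2 * n ≤ f * (2 * n) := Nat.le_mul_of_pos_left _ hf0
  obtain ⟨y₁, hy₁, hy₁1⟩ := exists_elt hG hl₁2 (hel1 l₁ hl₁ hl₁2 (dvd_add_one (by omega) hd₁ hdiv))
  have hVe : finrank F V < 2 * (2 * n) := by omega
  have hVl : finrank F V < 2 * l₁ := by omega
  have hirr : ∀ y : ↥(E Q), y ^ l₁ = 1 → Irr (en Q y) (R (en Q y)) := fun y hy => irr_R hd₁ hl₁F hVe hy
  have hdim : ∀ y : ↥(E Q), y ^ l₁ = 1 → y ≠ 1 → finrank F (R (en Q y)) = 2 * n :=
    fun y hy h1 => finrank_R_eq hd₁ hl₁F hVe hy h1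
  have hno : (p : F) = 0 → ∀ y : ↥(E Q), y ^ l₁ = 1 → y ≠ 1 → NoNorm p (QuotientGroup.mk y : P Q) := by
    intro hpF y hy hy1
    refine noNorm_of_ti hG hp2 hpF (ti_of_irr hG hl₁F hy (hirr y hy) fun v hv _ => ?_)
    have h1 := finrank_add (en Q y)
    rw [hdim y hy hy1, hV] at h1
    have h2 : K (en Q y) = ⊥ := Submodule.finrank_eq_zero.1 (by omega)
    rw [h2] at hv
    exact hv
  refine row_of hna fun a ha => ?_
  obtain ⟨M, rfl⟩ := haut a
  rcases inner_or_field hG hp.out hp2 ha with ⟨g, hg⟩ | ⟨σ, c, hM, hσ⟩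
  · obtain ⟨t, ht, ht1, hat⟩ := exists_lift_elt hG hp2 ha hg hna
    by_cases hpF : (p : F) = 0
    · exact Or.inr (Or.inl ⟨⟨g, hg⟩, _, hno hpF y₁ hy₁ hy₁1⟩)
    have hcyc : ∀ d, Ordd p (Nat.card F) d → finrank F V < 2 * d →
        ((∃ s : P Q, Psi Q M = MulAut.conj s) ∧ ∃ P' : Sylow p (P Q), IsCyclic ↥(P' : Subgroup (P Q))) :=
      fun d h1 h2 => ⟨⟨g, hg⟩, cyclic_sylow hG hp2 hpF h1 h2⟩
    by_cases hpl : l₁ = p
    · left
      subst hpl
      exact hcyc _ hd₁ hVe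
    by_cases hc : ∀ y : ↥(E Q), y ^ l₁ = 1 → y ≠ 1 → t * y ≠ y * t
    · right; right
      rw [hat]
      exact third_inner hG hp2 hl₁2 hpl hpF hVl hy₁ hy₁1 hc
    push Not at hc
    obtain ⟨y, hy, hy1, hty⟩ := hc
    have ht' : en Q t ≠ 1 := fun h => ht1 (en_injective (h.trans (map_one _).symm))
    obtain ⟨hpn, hRt⟩ : p ∣ Nat.card F ^ n + 1 ∧ finrank F (R (en Q t)) = 2 * n := by
      rcases comm_elt hG hl₁2 hl₁F hy (hirr y hy) ht hty with h | ⟨h, m, hm, hpm⟩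
      · exfalso
        apply ht'
        rw [← R_eq_bot, eq_bot_iff]
        refine (R_le_K hl₁F hy hty h).trans ?_
        have h1 := finrank_add (en Q y)
        rw [hdim y hy hy1, hV] at h1
        rw [Submodule.finrank_eq_zero.1 (show finrank F (K (en Q y)) = 0 by omega)]
      · rw [hdim y hy hy1] at hm
        have hmn : m = n := by omega
        subst hmn
        refine ⟨hpm, le_antisymm ((Submodule.finrank_le _).trans hV.le) ?_⟩
        rw [← hdim y hy hy1]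
        exact Submodule.finrank_mono h
    by_cases h28 : r = 2 ∧ f = 1 ∧ n = 4
    · -- `Ω₈⁻(2)`
      obtain ⟨rfl, rfl, rfl⟩ := h28
      left
      rw [hF'] at hpn
      norm_num at hpn
      have hp17 : p = 17 := (Nat.prime_dvd_prime_iff_eq hp.out (by norm_num)).1 hpn
      subst hp17
      refine hcyc 8 ?_ (by omega)
      rw [hF']
      exact ordd_17
    · obtain ⟨l₂, hl₂, hl₂2, -, hdiv₂, hl₂le, hd₂, hl₂r⟩ := exists_super (e := 2 * (n - 1)) hr hf0 (by omega)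
        (by
          rintro ⟨h1, h2⟩
          apply h28
          refine ⟨h1, ?_, ?_⟩
          · have h3 : f * 6 ≤ f * (2 * (n - 1)) := Nat.mul_le_mul_left _ (by omega)
            have : 1 ≤ f := hf0
            omega
          · have h3 : 1 * (2 * (n - 1)) ≤ f * (2 * (n - 1)) := Nat.mul_le_mul_right _ hf0
            omega)
      rw [← hF'] at hdiv₂ hd₂
      have := Fact.mk hl₂
      have hl₂F : (l₂ : F) ≠ 0 := natCast_ne_of_not_dvd hr hl₂r
      have hfe₂ : 2 * (n - 1) ≤ f * (2 * (n - 1)) := Nat.le_mul_of_pos_left _ hf0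
      obtain ⟨y₂, hy₂, hy₂1⟩ := exists_elt hG hl₂2 (hel2 l₂ hl₂ hl₂2 hdiv₂)
      have hVe₂ : finrank F V < 2 * (2 * (n - 1)) := by omega
      have hVl₂ : finrank F V < 2 * l₂ := by omega
      have hpl₂ : l₂ ≠ p := by
        rintro rfl
        exact arith_succ hp2 (by omega) hpn (dvd_add_one (by omega) hd₂ hdiv₂)
      right; right
      rw [hat]
      refine third_inner hG hp2 hl₂2 hpl₂ hpF hVl₂ hy₂ hy₂1 fun z hz hz1 hcz => ?_
      rcases comm_elt hG hl₂2 hl₂F hz (irr_R hd₂ hl₂F hVe₂ hz) ht hcz with h | ⟨h, m, hm, hpm⟩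
      · have h1 := Submodule.finrank_mono (R_le_K hl₂F hz hcz h)
        have h2 := finrank_add (en Q z)
        rw [finrank_R_eq hd₂ hl₂F hVe₂ hz hz1] at h2
        omega
      · rw [finrank_R_eq hd₂ hl₂F hVe₂ hz hz1] at hm
        have hmn : m = n - 1 := by omega
        subst hmn
        exact arith_succ hp2 (by omega) hpn hpm
  · right; right
    have hpl : l₁ ≠ p := by
      have h1 := Nat.le_of_dvd hf0 (field_dvd hG hp.out hM hσ ha hr hF')
      have h2 : f * 1 ≤ f * (2 * n) := Nat.mul_le_mul_left _ (by omega)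
      omega
    exact third_field hG hp2 hl₁2 hpl hr hF' hsup hd₁ hl₁F hVe hVl hno hy₁ hy₁1 hM hσ

end Cfsg.Agent.H200.RowOrth
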