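import Cfsg.Agent.H200.RowOrthD

/-!
# Rows of S4329 for orthogonal groups: odd dimension, abstract form (helper200)
-/

set_option autoImplicit false
set_option linter.unusedSectionVars false

namespace Cfsg.Agent.H200.RowOrth

open QuadraticMap Module Cfsg.Agent.LieClassical.OrthCore Cfsg.Agent.LieClassical.OrthTrans
open Cfsg.Agent.ClassicalGeometry.OrthSemi Cfsg.Agent.ClassicalGeometry.OrthAut1
open Cfsg.Agent.H200.LinFix Cfsg.Agent.H568

variable {F V : Type*} [Field F] [AddCommGroup V] [Module F V] {Q : QuadraticForm F V}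

/-- `R t` is not one-dimensional. -/
theorem finrank_R_ne_one [Finite V] [Finite F] (hG : Good Q) {p : ℕ} [hp : Fact p.Prime] (hp2 : p ≠ 2) (hpF : (p : F) ≠ 0)
    {t : ↥(E Q)} (ht : t ^ p = 1) : finrank F (R (en Q t)) ≠ 1 := by
  intro h
  have hfd : FiniteDimensional F V := inferInstance
  have ht' : en Q t ^ p = 1 := by rw [← map_pow, ht, map_one]
  have hd : Ordd p (Nat.card F) 1 := fun m _ => one_dvd m
  have hW : ∀ w ∈ R (en Q t), en Q t w ∈ R (en Q t) := fun w hw => R_inv rfl hw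
  have hne : R (en Q t) ≠ ⊥ := by
    intro h0
    rw [h0, finrank_bot] at h
    omega
  have h1 := even_of_irr (l := p) hp2 hpF ht' le_rfl hW (irr_of_lt hd hpF ht' le_rfl hW (by omega)) hne (polarBilin Q)
    (fun u _ v _ => isom_en t u v) (fun v hv hv' => nondeg_R (isom_en t) (polar_nondeg hG) ht' hpF hv hv')
  rw [h] at h1
  exact absurd h1 (by decide)

/-- **Odd dimension `2 n + 1`.** -/
theorem row_odd_abs [Finite V] [Finite F] (hG : Good Q) [IsSimpleGroup (P Q)] (hna : ¬ IsMulCommutative (P Q)) {p : ℕ}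
    [hp : Fact p.Prime] (hp2 : p ≠ 2) (h2F : (2 : F) ≠ 0) {n : ℕ} (hn : 3 ≤ n) (hV : finrank F V = 2 * n + 1)
    (haut : ∀ a : MulAut (P Q), ∃ M : Gam Q, a = Psi Q M)
    (hel1 : ∀ l : ℕ, l.Prime → l ≠ 2 → l ∣ Nat.card F ^ (2 * n) - 1 → l ∣ Nat.card (P Q))
    (hel2 : ∀ l : ℕ, l.Prime → l ≠ 2 → l ∣ Nat.card F ^ (2 * (n - 1)) - 1 → l ∣ Nat.card (P Q)) : Row p (P Q) := by
  classical
  have hfinE : Finite ↥(E Q) := finite_E
  have hfd : FiniteDimensional F V := inferInstance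
  obtain ⟨r, hchar⟩ := CharP.exists F
  have hFt : Fintype F := Fintype.ofFinite F
  obtain ⟨⟨f, hf0⟩, hr, hF⟩ := FiniteField.card F r
  have hF' : Nat.card F = r ^ f := by rw [Nat.card_eq_fintype_card]; exact hF
  have hr2 : r ≠ 2 := by
    rintro rfl
    exact h2F (by exact_mod_cast CharP.cast_eq_zero F 2)
  obtain ⟨l₁, hl₁, hl₁2, hsup, hdiv, hl₁le, hd₁, hl₁r⟩ := exists_super (e := 2 * n) hr hf0 (by omega)
    (fun h => hr2 h.1)
  rw [← hF'] at hdiv hd₁
  have := Fact.mk hl₁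
  have hl₁F : (l₁ : F) ≠ 0 := natCast_ne_of_not_dvd hr hl₁r
  have hfe : 2 * n ≤ f * (2 * n) := Nat.le_mul_of_pos_left _ hf0
  obtain ⟨y₁, hy₁, hy₁1⟩ := exists_elt hG hl₁2 (hel1 l₁ hl₁ hl₁2 hdiv)
  have hVe : finrank F V < 2 * (2 * n) := by omega
  have hVl : finrank F V < 2 * l₁ := by omega
  have hirr : ∀ y : ↥(E Q), y ^ l₁ = 1 → Irr (en Q y) (R (en Q y)) := fun y hy => irr_R hd₁ hl₁F hVe hy
  have hdim : ∀ y : ↥(E Q), y ^ l₁ = 1 → y ≠ 1 → finrank F (R (en Q y)) = 2 * n :=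
    fun y hy h1 => finrank_R_eq hd₁ hl₁F hVe hy h1
  have hno : (p : F) = 0 → ∀ y : ↥(E Q), y ^ l₁ = 1 → y ≠ 1 → NoNorm p (QuotientGroup.mk y : P Q) := by
    intro hpF y hy hy1
    refine noNorm_of_ti hG hp2 hpF (ti_of_irr hG hl₁F hy (hirr y hy) fun v hv hvv => ?_)
    have h1 := finrank_add (en Q y)
    rw [hdim y hy hy1, hV] at h1
    have hy' : en Q y ^ l₁ = 1 := by rw [← map_pow, hy, map_one]
    by_contra hv0
    apply hv0
    refine nondeg_K (isom_en y) (polar_nondeg hG) hy' hl₁F hv fun u hu => ?_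
    -- `K y` is spanned by `v`
    have h2 : finrank F (K (en Q y)) = 1 := by omega
    obtain ⟨c, hc⟩ := (finrank_eq_one_iff_of_nonzero' (⟨v, hv⟩ : K (en Q y)) (fun h => hv0 (congrArg Subtype.val h))).1
      h2 ⟨u, hu⟩
    have h3 : c • v = u := congrArg Subtype.val hc
    rw [← h3, map_smul, LinearMap.smul_apply, hvv, smul_zero]
  refine row_of hna fun a ha => ?_
  obtain ⟨M, rfl⟩ := haut a
  rcases inner_or_field hG hp.out hp2 ha with ⟨g, hg⟩ | ⟨σ, c, hM, hσ⟩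
  · obtain ⟨t, ht, ht1, hat⟩ := exists_lift_elt hG hp2 ha hg hna
    by_cases hpF : (p : F) = 0
    · exact Or.inr (Or.inl ⟨⟨g, hg⟩, _, hno hpF y₁ hy₁ hy₁1⟩)
    by_cases hpl : l₁ = p
    · left
      subst hpl
      exact ⟨⟨g, hg⟩, cyclic_sylow hG hp2 hpF hd₁ hVe⟩
    by_cases hc : ∀ y : ↥(E Q), y ^ l₁ = 1 → y ≠ 1 → t * y ≠ y * t
    · right; right
      rw [hat]
      exact third_inner hG hp2 hl₁2 hpl hpF hVl hy₁ hy₁1 hc
    push Not at hc
    obtain ⟨y, hy, hy1, hty⟩ := hc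
    have ht' : en Q t ≠ 1 := fun h => ht1 (en_injective (h.trans (map_one _).symm))
    obtain ⟨hpn, hRt⟩ : p ∣ Nat.card F ^ n + 1 ∧ 2 * n ≤ finrank F (R (en Q t)) := by
      rcases comm_elt hG hl₁2 hl₁F hy (hirr y hy) ht hty with h | ⟨h, m, hm, hpm⟩
      · exfalso
        have h1 := Submodule.finrank_mono (R_le_K hl₁F hy hty h)
        have h2 := finrank_add (en Q y)
        rw [hdim y hy hy1, hV] at h2
        have h3 := finrank_R_ne_one hG hp2 hpF ht
        apply ht'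
        rw [← R_eq_bot, ← Submodule.finrank_eq_zero (R := F)]
        omega
      · rw [hdim y hy hy1] at hm
        have hmn : m = n := by omega
        subst hmn
        refine ⟨hpm, ?_⟩
        rw [← hdim y hy hy1]
        exact Submodule.finrank_mono h
    obtain ⟨l₂, hl₂, hl₂2, -, hdiv₂, hl₂le, hd₂, hl₂r⟩ := exists_super (e := 2 * (n - 1)) hr hf0 (by omega)
      (fun h => hr2 h.1)
    rw [← hF'] at hdiv₂ hd₂
    have := Fact.mk hl₂
    have hl₂F : (l₂ : F) ≠ 0 := natCast_ne_of_not_dvd hr hl₂r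
    have hfe₂ : 2 * (n - 1) ≤ f * (2 * (n - 1)) := Nat.le_mul_of_pos_left _ hf0
    obtain ⟨y₂, hy₂, hy₂1⟩ := exists_elt hG hl₂2 (hel2 l₂ hl₂ hl₂2 hdiv₂)
    have hVe₂ : finrank F V < 2 * (2 * (n - 1)) := by omega
    have hVl₂ : finrank F V < 2 * l₂ := by omega
    have hpl₂ : l₂ ≠ p := by
      rintro rfl
      exact arith_succ hp2 (by omega) hpn (dvd_add_one (by omega) hd₂ hdiv₂)
    right; right
    rw [hat]
    refine third_inner hG hp2 hl₂2 hpl₂ hpF hVl₂ hy₂ hy₂1 fun z hz hz1 hcz => ?_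
    rcases comm_elt hG hl₂2 hl₂F hz (irr_R hd₂ hl₂F hVe₂ hz) ht hcz with h | ⟨h, m, hm, hpm⟩
    · have h1 := Submodule.finrank_mono (R_le_K hl₂F hz hcz h)
      have h2 := finrank_add (en Q z)
      rw [finrank_R_eq hd₂ hl₂F hVe₂ hz hz1] at h2
      omega
    · rw [finrank_R_eq hd₂ hl₂F hVe₂ hz hz1] at hm
      have hmn : m = n - 1 := by omega
      subst hmn
      exact arith_succ hp2 (by omega) hpn hpm
  · right; right
    have hpl : l₁ ≠ p := by
      have h1 := Nat.le_of_dvd hf0 (field_dvd hG hp.out hM hσ ha hr hF')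
      have h2 : f * 1 ≤ f * (2 * n) := Nat.mul_le_mul_left _ (by omega)
      omega
    exact third_field hG hp2 hl₁2 hpl hr hF' hsup hd₁ hl₁F hVe hVl hno hy₁ hy₁1 hM hσ

end Cfsg.Agent.H200.RowOrth
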