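import Cfsg.Agent.H200.RowOrthH

/-!
# Rows of S4329 : triality automorphisms, general part (helper200)
-/

set_option autoImplicit false
set_option linter.unusedSectionVars false

namespace Cfsg.Agent.H200.RowOrth

open QuadraticMap Module Cfsg.Agent.LieClassical.OrthCore Cfsg.Agent.LieClassical.OrthTrans
open Cfsg.Agent.ClassicalGeometry.OrthSemi Cfsg.Agent.ClassicalGeometry.OrthAut1
open Cfsg.Agent.H200.LinFix Cfsg.Agent.H568

/-! ### conjugates of an element of order three and a subgroup of index three -/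

theorem conj_notMem {A : Type*} [Group A] {H : Subgroup A} (hH : H.index = 3) {a : A} (ha3 : a ^ 3 = 1) (ha : a ∉ H)
    (g : A) : g * a * g⁻¹ ∉ H := by
  classical
  intro hg
  apply ha
  have hfin : Finite (A ⧸ H) := Nat.finite_of_card_ne_zero (by rw [← Subgroup.index_eq_card, hH]; decide)
  have hft : Fintype (A ⧸ H) := Fintype.ofFinite _
  let f : Function.End (A ⧸ H) := fun c => a • c
  have hfk : ∀ (k : ℕ) (c : A ⧸ H), (f ^ k) c = a ^ k • c := by
    intro k
    induction k with
    | zero =>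
      intro c
      have h : a ^ 0 • c = c := by rw [pow_zero, one_smul]
      exact h.symm
    | succ k ih =>
      intro c
      rw [pow_succ', pow_succ', mul_smul, ← ih]
      rfl
  have hf : f ^ 3 ^ 1 = 1 := by
    funext c
    rw [hfk, pow_one, ha3, one_smul]
    rfl
  have hp : Fact (Nat.Prime 3) := ⟨Nat.prime_three⟩
  have h1 := Equiv.Perm.card_fixedPoints_modEq (p := 3) (n := 1) hf
  have h2 : Fintype.card (A ⧸ H) = 3 := by rw [← Nat.card_eq_fintype_card, ← Subgroup.index_eq_card, hH]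
  have h3 : Fintype.card (Function.fixedPoints f) ≤ 3 := by
    rw [← h2]
    exact Fintype.card_subtype_le _
  have h4 : ((g⁻¹ : A) : A ⧸ H) ∈ Function.fixedPoints f := by
    change a • ((g⁻¹ : A) : A ⧸ H) = ((g⁻¹ : A) : A ⧸ H)
    change ((a * g⁻¹ : A) : A ⧸ H) = _
    rw [eq_comm, QuotientGroup.eq, inv_inv, ← mul_assoc]
    exact hg
  have h5 : 0 < Fintype.card (Function.fixedPoints f) := Fintype.card_pos_iff.2 ⟨⟨_, h4⟩⟩
  rw [h2] at h1
  have h6 : Fintype.card (Function.fixedPoints f) = 3 := by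
    have h7 := Nat.modEq_zero_iff_dvd.1 (h1.symm.trans (by decide : 3 ≡ 0 [MOD 3]))
    have h8 := Nat.le_of_dvd h5 h7
    omega
  have h7 : Function.fixedPoints f = Set.univ := by
    apply Set.eq_univ_of_forall
    by_contra hcon
    push Not at hcon
    obtain ⟨c, hc⟩ := hcon
    have h8 : Fintype.card (Function.fixedPoints f) < Fintype.card (A ⧸ H) := Fintype.card_subtype_lt hc
    omega
  have h8 : ((1 : A) : A ⧸ H) ∈ Function.fixedPoints f := by rw [h7]; exact Set.mem_univ _
  change ((a * 1 : A) : A ⧸ H) = ((1 : A) : A ⧸ H) at h8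
  rw [mul_one, eq_comm, QuotientGroup.eq, inv_one, one_mul] at h8
  exact h8

variable {F V : Type*} [Field F] [AddCommGroup V] [Module F V] {Q : QuadraticForm F V}

/-- `α` permutes the stabilisers of singular points. -/
def PtA (hG : Good Q) (α : MulAut (P Q)) : Prop :=
  ∀ x, Q x = 0 → x ≠ 0 → ∃ y, Q y = 0 ∧ y ≠ 0 ∧
    (stab hG (Submodule.span F {x})).map α.toMonoidHom = stab hG (Submodule.span F {y})

theorem mem_stab_conj (hG : Good Q) (g p : P Q) (W : Submodule F V) :
    p ∈ stab hG W ↔ g * p * g⁻¹ ∈ stab hG (pact hG g W) := by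
  have h : ((pact hG) g)⁻¹ (((pact hG) g) W) = W := (pact hG g).symm_apply_apply W
  rw [mem_stab, mem_stab, map_mul, map_mul, map_inv, Equiv.Perm.mul_apply, Equiv.Perm.mul_apply,
    h, EmbeddingLike.apply_eq_iff_eq]

theorem map_stab_conj (hG : Good Q) (α : MulAut (P Q)) (g : P Q) {W W' : Submodule F V}
    (h : (stab hG W).map α.toMonoidHom = stab hG W') :
    (stab hG (pact hG g W)).map α.toMonoidHom = stab hG (pact hG (α g) W') := by
  ext p
  constructor
  · rintro ⟨p, hp, rfl⟩
    have h1 : g⁻¹ * p * g ∈ stab hG W := by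
      rw [mem_stab_conj hG g]
      have h2 : g * (g⁻¹ * p * g) * g⁻¹ = p := by group
      rwa [h2]
    have h3 : α (g⁻¹ * p * g) ∈ stab hG W' := by
      rw [← h]
      exact ⟨_, h1, rfl⟩
    rw [mem_stab_conj hG (α g)] at h3
    have h4 : α g * α (g⁻¹ * p * g) * (α g)⁻¹ = α p := by
      rw [← map_inv, ← map_mul, ← map_mul]
      congr 1
      group
    rwa [h4] at h3
  · intro hp
    have h1 : (α g)⁻¹ * p * α g ∈ stab hG W' := by
      rw [mem_stab_conj hG (α g)]
      have h2 : α g * ((α g)⁻¹ * p * α g) * (α g)⁻¹ = p := by group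
      rwa [h2]
    rw [← h] at h1
    obtain ⟨t, ht, ht'⟩ := h1
    change α t = (α g)⁻¹ * p * α g at ht'
    refine ⟨g * t * g⁻¹, (mem_stab_conj hG g t W).1 ht, ?_⟩
    change α (g * t * g⁻¹) = p
    rw [map_mul, map_mul, map_inv, ht']
    group

/-- If one point stabiliser is mapped to a point stabiliser then all are. -/
theorem ptA_of_one (hG : Good Q) {α : MulAut (P Q)} {x y : V} (hx : Q x = 0) (hx0 : x ≠ 0) (hy : Q y = 0) (hy0 : y ≠ 0)
    (h : (stab hG (Submodule.span F {x})).map α.toMonoidHom = stab hG (Submodule.span F {y})) : PtA hG α := by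
  intro x' hx' hx0'
  obtain ⟨g, hg, hgx⟩ := hG.trans_sing hx hx' hx0 hx0'
  have h1 := map_stab_conj hG α (QuotientGroup.mk (⟨g, hg⟩ : ↥(E Q))) h
  obtain ⟨k, hk⟩ := QuotientGroup.mk_surjective (α (QuotientGroup.mk (⟨g, hg⟩ : ↥(E Q))))
  rw [pact_mk, mapHom_span, ← hk, pact_mk, mapHom_span] at h1
  refine ⟨(k : V ≃ₗ[F] V) y, ?_, ?_, ?_⟩
  · rw [E_le_O k.2, hy]
  · exact fun h0 => hy0 ((k : V ≃ₗ[F] V).map_eq_zero_iff.1 h0)
  · rw [← hgx]
    exact h1

/-- **An element of `P Q` fixed by a triality automorphism**: if it fixes a singular point then it fixes a totally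
singular `4`-space. -/
theorem exists_four [Finite F] [FiniteDimensional F V] (hG : Good Q) (h8 : finrank F V = 8) {α : MulAut (P Q)}
    (hα : ¬ PtA hG α) {y : ↥(E Q)} (hy : α (QuotientGroup.mk y) = QuotientGroup.mk y) {v : V} (hv : Q v = 0)
    (hv0 : v ≠ 0) (hyv : (y : V ≃ₗ[F] V) v = v) :
    ∃ W : Submodule F V, TS Q W ∧ finrank F W = 4 ∧ ∀ w ∈ W, (y : V ≃ₗ[F] V) w ∈ W := by
  rcases Cfsg.Agent.ClassicalGeometry.OrthAut3.dichotomy hG (by omega) α hv hv0 with ⟨x, hx, hx0, h⟩ | ⟨-, W, hW, hW4, h⟩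
  · exact absurd (ptA_of_one hG hv hv0 hx hx0 h) hα
  · refine ⟨W, hW, hW4, fun w hw => ?_⟩
    have h1 : (QuotientGroup.mk y : P Q) ∈ stab hG (Submodule.span F {v}) := by
      rw [mem_stab, pact_mk, mapHom_span, hyv]
    have h2 : (QuotientGroup.mk y : P Q) ∈ stab hG W := by
      rw [← h]
      exact ⟨_, h1, hy⟩
    rw [mem_stab, pact_mk] at h2
    have h3 : (y : V ≃ₗ[F] V) w ∈ mapHom (y : V ≃ₗ[F] V) W := ⟨w, hw, rfl⟩
    rwa [h2] at h3

/-- Totally isotropic subspaces of a nondegenerate subspace. -/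
theorem finrank_ti_le [FiniteDimensional F V] {U W : Submodule F V}
    (hU : ∀ v ∈ U, (∀ u ∈ U, polarBilin Q u v = 0) → v = 0) (hWU : W ≤ U)
    (hW : ∀ u ∈ W, ∀ v ∈ W, polarBilin Q u v = 0) : 2 * finrank F W ≤ finrank F U := by
  have hnd : (LinearMap.BilinForm.restrict (polarBilin Q) U).Nondegenerate := by
    constructor
    · rintro ⟨v, hv⟩ h
      apply Subtype.ext
      apply hU v hv
      intro u hu
      rw [polarBilin_apply_apply, polar_comm]
      exact h ⟨u, hu⟩
    · rintro ⟨v, hv⟩ h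
      apply Subtype.ext
      apply hU v hv
      intro u hu
      exact h ⟨u, hu⟩
  have h1 := LinearMap.BilinForm.finrank_orthogonal hnd (W.comap U.subtype)
  have h2 : W.comap U.subtype ≤ (LinearMap.BilinForm.restrict (polarBilin Q) U).orthogonal (W.comap U.subtype) := by
    intro v hv u hu
    exact hW u hu v hv
  have h3 := Submodule.finrank_mono h2
  have h4 : finrank F (W.comap U.subtype) = finrank F W := (Submodule.comapSubtypeEquivOfLe hWU).finrank_eq
  have h5 : finrank F (W.comap U.subtype) ≤ finrank F U := Submodule.finrank_le _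
  omega

/-- No totally singular `4`-space is fixed pointwise by a nontrivial element. -/
theorem false_of_four [Finite V] (hG : Good Q) (h8 : finrank F V = 8) {y : ↥(E Q)} (hy1 : y ≠ 1) {n : ℕ}
    (hn : (n : F) ≠ 0) (hy : y ^ n = 1) {W : Submodule F V} (hW : TS Q W) (hW4 : finrank F W = 4)
    (hyW : ∀ w ∈ W, (y : V ≃ₗ[F] V) w ∈ W) (hR : R (en Q y) ⊓ W = ⊥) : False := by
  have hfd : FiniteDimensional F V := inferInstance
  have hy' : en Q y ^ n = 1 := by rw [← map_pow, hy, map_one]
  have h1 : W ≤ K (en Q y) := by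
    intro w hw
    obtain ⟨k, hk, r, hr, rfl⟩ := decomp_mem hy' hn hyW hw
    rw [hR, Submodule.mem_bot] at hr
    rw [hr, add_zero]
    exact hk.1
  have h2 := finrank_ti_le (fun v hv h => nondeg_K (isom_en y) (polar_nondeg hG) hy' hn hv h) h1
    (fun u hu v hv => hW.polar hu hv)
  have h3 := finrank_add (en Q y)
  apply hy1
  apply en_injective
  rw [map_one, ← R_eq_bot, ← Submodule.finrank_eq_zero (R := F)]
  omega

end Cfsg.Agent.H200.RowOrth
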