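import Cfsg.Agent.H200.RowOrthJ

/-!
# Rows of S4329 : triality automorphisms in characteristic three (helper200)
-/

set_option autoImplicit false
set_option linter.unusedSectionVars false

namespace Cfsg.Agent.H200.RowOrth

open QuadraticMap Module Cfsg.Agent.LieClassical.OrthCore Cfsg.Agent.LieClassical.OrthTrans
open Cfsg.Agent.ClassicalGeometry.OrthSemi Cfsg.Agent.ClassicalGeometry.OrthAut1
open Cfsg.Agent.H200.LinFix Cfsg.Agent.H568

variable {F V : Type*} [Field F] [AddCommGroup V] [Module F V] {Q : QuadraticForm F V}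

/-- A nontrivial element of `E Q` with commutator space in an anisotropic plane. -/
theorem exists_rot [Finite V] (hG : Good Q) (h2F : (2 : F) ≠ 0) {U : Submodule F V} (hU : finrank F U = 2)
    (hUQ : ∀ v ∈ U, Q v = 0 → v = 0) : ∃ z : ↥(E Q), z ≠ 1 ∧ R (en Q z) ≤ U := by
  have hfd : FiniteDimensional F V := inferInstance
  have hU0 : U ≠ ⊥ := by
    rintro rfl
    rw [finrank_bot] at hU
    omega
  obtain ⟨u, hu, hu0⟩ := Submodule.exists_mem_ne_zero_of_ne_bot hU0
  have hQu : Q u ≠ 0 := fun h => hu0 (hUQ u hu h)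
  -- `w` orthogonal to `u`
  obtain ⟨w, hw, hw0, huw⟩ : ∃ w ∈ U, w ≠ 0 ∧ polar Q u w = 0 := by
    let f : U →ₗ[F] F := (polarBilin Q u).comp U.subtype
    have h1 := LinearMap.finrank_range_add_finrank_ker f
    have h2 : finrank F (LinearMap.range f) ≤ 1 := (Submodule.finrank_le _).trans (by simp)
    have h3 : LinearMap.ker f ≠ ⊥ := by
      intro h
      rw [h, finrank_bot] at h1
      omega
    obtain ⟨⟨w, hw⟩, hw1, hw2⟩ := Submodule.exists_mem_ne_zero_of_ne_bot h3
    exact ⟨w, hw, fun h => hw2 (Subtype.ext h), hw1⟩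
  have huwind : ∀ c : F, w ≠ c • u := by
    rintro c rfl
    rw [polar_smul_right, polar_self', smul_eq_mul] at huw
    have hc : c ≠ 0 := by
      rintro rfl
      exact hw0 (zero_smul _ _)
    exact mul_ne_zero hc (mul_ne_zero h2F hQu) huw
  set v := u + w with hv
  have hvU : v ∈ U := U.add_mem hu hw
  have hv0 : v ≠ 0 := by
    intro h
    apply huwind (-1)
    rw [neg_one_smul]
    exact eq_neg_of_add_eq_zero_right h
  have hQv : Q v ≠ 0 := fun h => hv0 (hUQ v hvU h)
  have huv : polar Q u v = 2 * Q u := by rw [hv, polar_add_right, huw, add_zero, polar_self']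
  set g := refl Q u hQu * refl Q v hQv with hg
  have hgO : g ∈ O Q := (O Q).mul_mem (refl_mem_O hQu) (refl_mem_O hQv)
  have hgU : ∀ x, g x - x ∈ U := by
    intro x
    change refl Q u hQu (refl Q v hQv x) - x ∈ U
    rw [refl_apply, refl_apply]
    have h1 : x - ((Q v)⁻¹ * polar Q v x) • v -
        ((Q u)⁻¹ * polar Q u (x - ((Q v)⁻¹ * polar Q v x) • v)) • u - x =
        -(((Q v)⁻¹ * polar Q v x) • v + ((Q u)⁻¹ * polar Q u (x - ((Q v)⁻¹ * polar Q v x) • v)) • u) := by abel
    rw [h1]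
    exact U.neg_mem (U.add_mem (U.smul_mem _ hvU) (U.smul_mem _ hu))
  refine ⟨⟨g * g, ETable.Orth.sq_mem_E hG hgO⟩, ?_, ?_⟩
  · intro h
    have h1 : g * g = 1 := congrArg Subtype.val h
    -- so the reflections commute
    have h2 : refl Q u hQu (refl Q v hQv u) = refl Q v hQv (refl Q u hQu u) := by
      have h3 : ∀ x, refl Q u hQu (refl Q u hQu x) = x := fun x => by
        exact reflLin_reflLin hQu x
      have h4 : ∀ x, refl Q v hQv (refl Q v hQv x) = x := fun x => by
        exact reflLin_reflLin hQv x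
      have h5 : g (g (refl Q v hQv (refl Q u hQu u))) = refl Q v hQv (refl Q u hQu u) :=
        LinearEquiv.congr_fun h1 _
      change refl Q u hQu (refl Q v hQv (refl Q u hQu (refl Q v hQv (refl Q v hQv (refl Q u hQu u))))) = _ at h5
      rw [h4, h3] at h5
      exact h5
    have h3 : refl Q u hQu u = -u := by
      rw [refl_apply, polar_self']
      have h4 : (Q u)⁻¹ * (2 * Q u) = 2 := by field_simp
      rw [h4, two_smul]
      abel
    rw [h3, map_neg] at h2
    set c := (Q v)⁻¹ * polar Q v u with hc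
    have hc0 : c ≠ 0 := by
      rw [hc, polar_comm, huv]
      exact mul_ne_zero (inv_ne_zero hQv) (mul_ne_zero h2F hQu)
    have h4 : refl Q v hQv u = u - c • v := refl_apply hQv u
    rw [h4, map_sub, map_smul, h3, refl_apply hQu v, huv] at h2
    have h5 : (Q u)⁻¹ * (2 * Q u) = 2 := by field_simp
    rw [h5] at h2
    -- `-u - c (v - 2 u) = -(u - c v)`
    have h6 : (2 * c) • (v - u) = 0 := by
      have h7 : -u - c • (v - (2 : F) • u) - -(u - c • v) = -((2 * c) • (v - u)) := by module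
      rw [h2, sub_self] at h7
      exact neg_eq_zero.1 h7.symm
    rcases smul_eq_zero.1 h6 with h7 | h7
    · exact mul_ne_zero h2F hc0 h7
    · apply hw0
      rw [hv, add_sub_cancel_left] at h7
      exact h7
  · rintro _ ⟨x, rfl⟩
    change g (g x) - x ∈ U
    have h1 : g (g x) - x = (g (g x) - g x) + (g x - x) := by abel
    rw [h1]
    exact U.add_mem (hgU _) (hgU _)

/-- elements with commutator space in `K y` commute with `y` -/
theorem comm_of_le [Finite V] (hG : Good Q) {l : ℕ} (hlF : (l : F) ≠ 0) {y z : ↥(E Q)} (hy : y ^ l = 1)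
    (hz : R (en Q z) ≤ K (en Q y)) : (∀ w ∈ R (en Q y), en Q z w = w) ∧ y * z = z * y := by
  have hfd : FiniteDimensional F V := inferInstance
  have hy' : en Q y ^ l = 1 := by rw [← map_pow, hy, map_one]
  have h1 : ∀ w ∈ R (en Q y), en Q z w = w := by
    intro w hw
    rw [← sub_eq_zero]
    apply hG.nondeg
    intro x
    obtain ⟨u, rfl⟩ := (z : V ≃ₗ[F] V).surjective x
    have h2 := isom_en z w u
    rw [polarBilin_apply_apply, polarBilin_apply_apply] at h2
    have h3 : polar Q w (en Q z u - u) = 0 := perp_RK (isom_en y) hw (hz ⟨u, rfl⟩)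
    rw [polar_sub_right, sub_eq_zero] at h3
    change polar Q (en Q z w - w) (en Q z u) = 0
    rw [polar_sub_left, h2, h3, sub_self]
  refine ⟨h1, en_injective ?_⟩
  rw [map_mul, map_mul]
  refine LinearMap.ext fun v => ?_
  obtain ⟨k, hk, r, hr, rfl⟩ := decomp hy' hlF v
  rw [Module.End.mul_apply, Module.End.mul_apply, map_add, map_add, map_add, map_add, h1 r hr, mem_K.1 hk,
    h1 _ (R_inv rfl hr)]
  congr 1
  have h2 : en Q z k ∈ K (en Q y) := by
    have h3 : en Q z k = (en Q z k - k) + k := by abel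
    rw [h3]
    exact Submodule.add_mem _ (hz ⟨k, rfl⟩) hk
  exact mem_K.1 h2

theorem orderOf_dvd_mul_two (hG : Good Q) (z : ↥(E Q)) : orderOf z ∣ orderOf (QuotientGroup.mk z : P Q) * 2 := by
  apply orderOf_dvd_of_pow_eq_one
  have h4 : z ^ orderOf (QuotientGroup.mk z : P Q) ∈ Subgroup.center ↥(E Q) := by
    rw [← QuotientGroup.eq_one_iff, QuotientGroup.mk_pow, pow_orderOf_eq_one]
  rw [pow_mul, pow_two, center_sq hG h4]

set_option maxHeartbeats 1000000 in
theorem triality_char [Finite V] [Finite F] (hG : Good Q) (h8 : finrank F V = 8) (h3F : (3 : F) = 0)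
    [hp : Fact (Nat.Prime 3)]
    (hsing : Nat.card {v : V // Q v = 0} = (Nat.card F ^ 4 - 1) * (Nat.card F ^ 3 + 1) + 1)
    (hel1 : ∀ l : ℕ, l.Prime → l ≠ 2 → l ∣ Nat.card F ^ 6 - 1 → l ∣ Nat.card (P Q))
    {Γ : Subgroup (MulAut (P Q))} (hΓ : ∀ α, α ∈ Γ ↔ PtA hG α) (hΓ3 : Γ.index = 3) {a : MulAut (P Q)} (ha3 : a ^ 3 = 1)
    (ha : a ∉ Γ) : Alt 3 a := by
  classical
  have hfinE : Finite ↥(E Q) := finite_E
  have hfd : FiniteDimensional F V := inferInstance
  obtain ⟨r, hchar⟩ := CharP.exists F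
  have hFt : Fintype F := Fintype.ofFinite F
  obtain ⟨⟨f, hf0⟩, hr, hF⟩ := FiniteField.card F r
  have hF' : Nat.card F = r ^ f := by rw [Nat.card_eq_fintype_card]; exact hF
  have h3F' : ((3 : ℕ) : F) = 0 := by exact_mod_cast h3F
  have hr3 : r = 3 := by
    rw [CharP.cast_eq_zero_iff F r] at h3F'
    exact (Nat.prime_dvd_prime_iff_eq hr Nat.prime_three).1 h3F'
  subst hr3
  obtain ⟨l, hl, hl2, -, hdiv, hle, hd, hlr⟩ := exists_super (e := 6) hr hf0 (by omega) (by rintro ⟨h, -⟩; omega)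
  rw [← hF'] at hdiv hd
  have := Fact.mk hl
  have hlF : (l : F) ≠ 0 := natCast_ne_of_not_dvd hr hlr
  have h2F : (2 : F) ≠ 0 := by
    intro h2
    have h3 : ((2 : ℕ) : F) = 0 := by exact_mod_cast h2
    rw [CharP.cast_eq_zero_iff F 3] at h3
    omega
  obtain ⟨y, hy, hy1⟩ := exists_elt hG hl2 (hel1 l hl hl2 hdiv)
  have hy' : en Q y ^ l = 1 := by rw [← map_pow, hy, map_one]
  have hRy : finrank F (R (en Q y)) = 6 := finrank_R_eq hd hlF (by omega) hy hy1
  have hKy := finrank_add (en Q y)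
  have hl1 : l ∣ Nat.card F ^ 3 + 1 := dvd_add_one (n := 3) (by norm_num) hd hdiv
  have hnosing : ∀ v ∈ K (en Q y), Q v = 0 → v = 0 := fun v hv hQv =>
    no_sing_K (n := 4) hG (by norm_num) h8 hsing hl2 hlF hd hl1 hy hy1 hv hQv
  obtain ⟨z, hz1, hzU⟩ := exists_rot hG h2F (U := K (en Q y)) (by omega) hnosing
  obtain ⟨hzR, hyz⟩ := comm_of_le hG hlF hy hzU
  -- the orders
  set n := orderOf z with hn
  have hn0 : 0 < n := orderOf_pos z
  have hln : ¬ l ∣ n := by
    rintro ⟨m, hm⟩
    have hm0 : m ≠ 0 := by rintro rfl; omega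
    have h1 : orderOf (z ^ m) = l := by
      rw [orderOf_pow' z hm0, ← hn, hm, Nat.gcd_eq_right (Dvd.intro_left _ rfl), Nat.mul_div_cancel _ (Nat.pos_of_ne_zero hm0)]
    have h2 : (z ^ m) ^ l = 1 := by rw [← h1, pow_orderOf_eq_one]
    have h3 : z ^ m ≠ 1 := by
      intro h
      rw [h, orderOf_one] at h1
      exact hl.one_lt.ne h1
    have h4 := finrank_R_eq hd hlF (by omega) h2 h3
    have h5 : R (en Q (z ^ m)) ≤ K (en Q y) := by
      rintro _ ⟨x, rfl⟩
      change en Q (z ^ m) x - x ∈ K (en Q y)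
      rw [map_pow]
      generalize m = k
      induction k with
      | zero =>
        have : (en Q z ^ 0) x - x = 0 := sub_self x
        rw [this]
        exact Submodule.zero_mem _
      | succ k ih =>
        rw [pow_succ', Module.End.mul_apply]
        have h6 : en Q z ((en Q z ^ k) x) - x = (en Q z ((en Q z ^ k) x) - (en Q z ^ k) x) + ((en Q z ^ k) x - x) := by
          abel
        rw [h6]
        exact Submodule.add_mem _ (hzU ⟨_, rfl⟩) ih
    have h6 := Submodule.finrank_mono h5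
    omega
  have hcop : Nat.Coprime l n := (Nat.Prime.coprime_iff_not_dvd hl).2 hln
  have hcomm : Commute y z := hyz
  -- `y` and `z` are powers of `y z`
  obtain ⟨k₁, hk₁l, hk₁n⟩ := Nat.chineseRemainder hcop 1 0
  obtain ⟨k₂, hk₂l, hk₂n⟩ := Nat.chineseRemainder hcop 0 1
  have hpow1 : (y * z) ^ k₁ = y := by
    rw [hcomm.mul_pow]
    have h1 : y ^ k₁ = y := by
      have h2 := (pow_eq_pow_iff_modEq (x := y) (n := k₁) (m := 1)).2 (hk₁l.of_dvd (orderOf_dvd_of_pow_eq_one hy))
      rwa [pow_one] at h2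
    have h2 : z ^ k₁ = 1 := by
      have h3 := (pow_eq_pow_iff_modEq (x := z) (n := k₁) (m := 0)).2 hk₁n
      rwa [pow_zero] at h3
    rw [h1, h2, mul_one]
  have hpow2 : (y * z) ^ k₂ = z := by
    rw [hcomm.mul_pow]
    have h1 : y ^ k₂ = 1 := by
      have h2 := (pow_eq_pow_iff_modEq (x := y) (n := k₂) (m := 0)).2 (hk₂l.of_dvd (orderOf_dvd_of_pow_eq_one hy))
      rwa [pow_zero] at h2
    have h2 : z ^ k₂ = z := by
      have h3 := (pow_eq_pow_iff_modEq (x := z) (n := k₂) (m := 1)).2 hk₂n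
      rwa [pow_one] at h3
    rw [h1, h2, one_mul]
  have hno : NoNorm 3 (QuotientGroup.mk (y * z) : P Q) := by
    refine noNorm_of_ti hG (by norm_num) h3F' fun U hU hti => ?_
    refine ti_of_irr hG hlF hy (irr_R hd hlF (by omega) hy) (fun v hv hvv => ?_) U (fun u hu => ?_) hti
    · apply hnosing v hv
      rw [polarBilin_apply_apply, polar_self'] at hvv
      exact (mul_eq_zero.1 hvv).resolve_left h2F
    · rw [← hpow1, map_pow]
      exact pow_inv_mem hU k₁ u hu
  right; right
  refine ⟨QuotientGroup.mk (y * z), hno.not_dvd, hno.pcent, fun g hg => ?_⟩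
  have hnoP : ¬ PtA hG (g * a * g⁻¹) := by
    rw [← hΓ]
    exact conj_notMem hΓ3 ha3 ha g
  -- `z` is fixed
  have hfz : (g * a * g⁻¹) (QuotientGroup.mk z) = QuotientGroup.mk z := by
    rw [← hpow2, QuotientGroup.mk_pow, map_pow, hg]
  obtain ⟨v, hv, hv0, hQv⟩ := Cfsg.Agent.LieClassical.OrthFinite.exists_sing_mem (Q := Q)
    (R (en Q y)) (by omega)
  obtain ⟨W, hW, hW4, hyW⟩ := exists_four hG h8 hnoP hfz hQv hv0 (hzR v hv)
  have hn3 : ¬ 3 ∣ n := by
    intro h3
    have h1 : ¬ 3 ∣ orderOf (QuotientGroup.mk z : P Q) := by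
      intro h
      apply hno.not_dvd
      refine h.trans ?_
      have h5 : (QuotientGroup.mk z : P Q) = (QuotientGroup.mk (y * z) : P Q) ^ k₂ := by
        rw [← QuotientGroup.mk_pow, hpow2]
      rw [h5]
      exact orderOf_pow_dvd k₂
    apply h1
    have h2 : n ∣ orderOf (QuotientGroup.mk z : P Q) * 2 := orderOf_dvd_mul_two hG z
    rcases (Nat.Prime.dvd_mul Nat.prime_three).1 (h3.trans h2) with h4 | h4
    · exact h4
    · omega
  have hnF : (n : F) ≠ 0 := by
    intro h
    rw [CharP.cast_eq_zero_iff F 3] at h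
    exact hn3 h
  refine false_of_four hG h8 hz1 hnF (pow_orderOf_eq_one z) hW hW4 hyW ?_
  rw [eq_bot_iff]
  rintro w ⟨hw, hwW⟩
  exact hnosing w (hzU hw) (hW w hwW)

end Cfsg.Agent.H200.RowOrth
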